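import Groth.Agent.DimFormula.Stalk
import Groth.Agent.Hensel.HenselizationDescent
import Groth.Prelude.Def_Cyc

/-! The dimension of the strict localization of the closure of a point is at most the difference of
the codimensions. -/

set_option autoImplicit false
set_option backward.isDefEq.respectTransparency.types false

universe u

open CategoryTheory AlgebraicGeometry

namespace Groth.Agent.CdLib.DimBound

variable {X : Scheme.{u}}

/-- The dimension of `R/pR` for a strict henselization `R` of the local ring at `y`. -/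
theorem exists_ringKrullDim_eq [IsLocallyNoetherian X] {x y : X} (hxy : x ⤳ y)
    (R : Type u) [CommRing R] [IsLocalRing R] [Algebra (X.presheaf.stalk y) R]
    [IsLocalHom (algebraMap (X.presheaf.stalk y) R)] [Hensel.IsStrictHenselization (X.presheaf.stalk y) R] :
    ∃ e : ℕ, ringKrullDim (R ⧸ (RingHom.ker (Cyc.specMap y x hxy)).map (algebraMap (X.presheaf.stalk y) R)) = e ∧
      e + DimFormula.codim x ≤ DimFormula.codim y := by
  let A := X.presheaf.stalk y
  let p : Ideal A := RingHom.ker (Cyc.specMap y x hxy)
  let s : Spec (X.residueField x) ⟶ Spec A := Spec.map (CommRingCat.ofHom (Cyc.specMap y x hxy))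
  let a : PrimeSpectrum A := s.base default
  have ha : a.asIdeal = p := by
    let t : PrimeSpectrum (X.residueField x) := (default : Spec (X.residueField x))
    have ht : t.asIdeal = ⊥ := (Ideal.eq_bot_or_top t.asIdeal).resolve_right t.isPrime.ne_top
    change t.asIdeal.comap (Cyc.specMap y x hxy) = p
    rw [ht]
    rfl
  have hax : (X.fromSpecStalk y).base a = x := by
    have h : s ≫ X.fromSpecStalk y = X.fromSpecResidueField x := by
      change Spec.map (X.presheaf.stalkSpecializes hxy ≫ X.residue x) ≫ _ = _
      rw [Spec.map_comp, Category.assoc, Scheme.SpecMap_stalkSpecializes_fromSpecStalk]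
      rfl
    rw [← Scheme.Hom.comp_apply, h]
    exact Scheme.fromSpecResidueField_apply x _
  have hq : ringKrullDim (A ⧸ a.asIdeal) = (DimFormula.cd x y : WithBot ℕ∞) := by
    rw [DimFormula.ringKrullDim_stalk_quotient y a, hax]
  have hmono : ringKrullDim (R ⧸ p.map (algebraMap A R)) ≤ ringKrullDim (A ⧸ p) := by
    have h := Hensel.isHenzLike_of_isStrictHenselization A R
    let f : A ⧸ p →+* R ⧸ p.map (algebraMap A R) := Ideal.quotientMap _ (algebraMap A R) Ideal.le_comap_map
    refine Order.krullDim_le_of_strictMono (PrimeSpectrum.comap f) fun q q' hlt => ?_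
    refine lt_of_le_of_ne (fun r hr => hlt.le hr) fun he => ?_
    have he' : (q.asIdeal.comap (Ideal.Quotient.mk _)).comap (algebraMap A R) =
        (q'.asIdeal.comap (Ideal.Quotient.mk _)).comap (algebraMap A R) := by
      have h1 := congrArg (fun z : PrimeSpectrum (A ⧸ p) => z.asIdeal.comap (Ideal.Quotient.mk p)) he
      simp only [PrimeSpectrum.comap_asIdeal, Ideal.comap_comap] at h1 ⊢
      exact h1
    have h2 := h.eq_of_le_of_comap_eq (Ideal.comap_mono hlt.le) he'
    exact hlt.ne (PrimeSpectrum.ext (Ideal.comap_injective_of_surjective _ Ideal.Quotient.mk_surjective h2))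
  have hne : (p.map (algebraMap A R)) ≠ ⊤ := by
    refine ne_top_of_le_ne_top (IsLocalRing.maximalIdeal.isMaximal R).ne_top
      (le_trans (Ideal.map_mono (IsLocalRing.le_maximalIdeal (RingHom.ker_isPrime _).ne_top)) ?_)
    exact ((IsLocalRing.local_hom_TFAE (algebraMap A R)).out 0 2).1 ‹_›
  haveI := Ideal.Quotient.nontrivial_iff.2 hne
  rw [← ha] at hmono
  rw [hq] at hmono
  obtain ⟨d, hd⟩ := WithBot.ne_bot_iff_exists.1
    (Order.krullDim_ne_bot_iff.2 (inferInstance : Nonempty (PrimeSpectrum (R ⧸ p.map (algebraMap A R)))))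
  rw [ha] at hmono
  change _ = ringKrullDim _ at hd
  rw [← hd] at hmono
  have hd' : d ≤ (DimFormula.cd x y : ℕ∞) := by exact_mod_cast hmono
  obtain ⟨e, rfl⟩ := ENat.ne_top_iff_exists.1 (ne_top_of_le_ne_top (ENat.coe_ne_top _) hd')
  refine ⟨e, hd.symm.trans (by rfl), ?_⟩
  have := DimFormula.codim_mono_add hxy
  have : e ≤ DimFormula.cd x y := by exact_mod_cast hd'
  omega

end Groth.Agent.CdLib.DimBound
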