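import Groth.Agent.EtLC12.StrictStalk
import Groth.Agent.EtFound.Henselian
import Groth.Prelude.Def_Hensel
import Mathlib.FieldTheory.SeparableClosure
import Mathlib.AlgebraicGeometry.ResidueField

/-! The etale local ring at a separably closed point over `y` is a strict henselization of the local
ring at `y`. -/

set_option autoImplicit false
set_option backward.isDefEq.respectTransparency.types false

universe u

open CategoryTheory CategoryTheory.Limits AlgebraicGeometry Opposite Polynomial

namespace Groth.Agent.CdLib.EtaleStrictHens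

noncomputable section

open Groth.Agent.EtLC12.StrictStalk

/-- Morphisms from the spectrum of a local ring factor through the local ring of the image of the
closed point. -/
theorem exists_factor {X : Scheme.{u}} {y : X} (T : Type u) [CommRing T] [IsLocalRing T]
    (h : Spec (CommRingCat.of T) ⟶ X) (hy : h.base (IsLocalRing.closedPoint T) = y) :
    ∃ α : X.presheaf.stalk y ⟶ CommRingCat.of T, IsLocalHom α.hom ∧ Spec.map α ≫ X.fromSpecStalk y = h := by
  subst hy
  exact ⟨Scheme.stalkClosedPointTo h, inferInstance, Scheme.Spec_stalkClosedPointTo_fromSpecStalk h⟩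

/-- Lifting to an etale scheme along a morphism from a henselian local ring. -/
theorem existsUnique_lift {X : Scheme.{u}} (T : Type u) [CommRing T] [HenselianLocalRing T]
    (t : Spec (CommRingCat.of T) ⟶ X) {U : Scheme.{u}} (g : U ⟶ X) [Etale g]
    (w : Spec (CommRingCat.of (IsLocalRing.ResidueField T)) ⟶ U) (hw : w ≫ g = EtFound.cpt T ≫ t) :
    ∃! l : Spec (CommRingCat.of T) ⟶ U, l ≫ g = t ∧ EtFound.cpt T ≫ l = w := by
  let u := pullback.lift (f := g) (g := t) w (EtFound.cpt T) hw
  obtain ⟨σ, ⟨h1, h2⟩, huniq⟩ := EtFound.existsUnique_section T (pullback.snd g t) u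
    (pullback.lift_snd _ _ _)
  refine ⟨σ ≫ pullback.fst g t, ⟨?_, ?_⟩, fun l hl => ?_⟩
  · rw [Category.assoc, pullback.condition, ← Category.assoc, h1, Category.id_comp]
  · rw [← Category.assoc, h2, pullback.lift_fst]
  · have h := huniq (pullback.lift l (𝟙 _) (by rw [hl.1, Category.id_comp])) ⟨pullback.lift_snd _ _ _,
      pullback.hom_ext (by rw [Category.assoc, pullback.lift_fst, pullback.lift_fst]; exact hl.2)
        (by rw [Category.assoc, pullback.lift_snd, pullback.lift_snd, Category.comp_id])⟩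
    rw [← h, pullback.lift_fst]

variable {X : Scheme.{u}}

section geom

variable {Ω : Type u} [Field Ω] [IsSepClosed Ω] {ξ : Spec (CommRingCat.of Ω) ⟶ X}

/-- Two affine neighbourhoods have a common refinement, as neighbourhoods over `X`. -/
theorem exists_common_over (N M : Nbhd ξ) : ∃ (P : Nbhd ξ) (a : N.B ⟶ P.B) (b : M.B ⟶ P.B),
    (Spec.map a ≫ N.g = P.g ∧ a ≫ P.germ = N.germ) ∧ (Spec.map b ≫ M.g = P.g ∧ b ≫ P.germ = M.germ) := by
  obtain ⟨⟨T, t⟩, ⟨a₀, ha₀⟩, ⟨b₀, hb₀⟩, -⟩ := IsCofilteredOrEmpty.cone_objs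
    ((Scheme.pointSmallEtale ξ).fiber.elementsMk N.obj N.pt)
    ((Scheme.pointSmallEtale ξ).fiber.elementsMk M.obj M.pt)
  obtain ⟨P, j, rfl⟩ := exists_nbhd T t
  have key : ∀ (N : Nbhd ξ) (a : T ⟶ N.obj),
      (Scheme.pointSmallEtale ξ).fiber.map a ((Scheme.pointSmallEtale ξ).fiber.map j P.pt) = N.pt →
      ∃ ψ : N.B ⟶ P.B, Spec.map ψ ≫ N.g = P.g ∧ ψ ≫ P.germ = N.germ := by
    intro N a ha
    have hc : (Scheme.pointSmallEtale ξ).fiber.map (j ≫ a) P.pt = N.pt :=
      (congr($((Scheme.pointSmallEtale ξ).fiber.map_comp j a) P.pt)).trans ha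
    obtain ⟨ψ, hψ⟩ := Spec.map_surjective ((j ≫ a).left : Spec P.B ⟶ Spec N.B)
    have h : Spec.map P.φ ≫ ((j ≫ a).left : Spec P.B ⟶ Spec N.B) = Spec.map N.φ :=
      congrArg CommaMorphism.left hc
    have hg : Spec.map ψ ≫ N.g = P.g := by rw [hψ]; exact MorphismProperty.Over.w (j ≫ a)
    exact ⟨ψ, hg, Nbhd.germ_comp ψ hg (Spec.map_injective
      ((Spec.map_comp ψ P.φ).trans ((congrArg (Spec.map P.φ ≫ ·) hψ).trans h)))⟩
  obtain ⟨a, ha⟩ := key N a₀ ha₀
  obtain ⟨b, hb⟩ := key M b₀ hb₀
  exact ⟨P, a, b, ha, hb⟩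

variable (ξ)

theorem nonempty_nbhd : Nonempty (Nbhd ξ) :=
  ⟨(exists_nbhd (EtCoh.top X) (CategoryTheory.Over.homMk ξ (Category.comp_id _))).choose⟩

/-- The canonical morphism from the spectrum of the etale local ring. -/
noncomputable def toX : Spec (EtBase.etaleLocalRing ξ) ⟶ X :=
  Spec.map (nonempty_nbhd ξ).some.germ ≫ (nonempty_nbhd ξ).some.g

variable {ξ}

theorem toX_eq (N : Nbhd ξ) : Spec.map N.germ ≫ N.g = toX ξ := by
  obtain ⟨P, a, b, ⟨ha, ha'⟩, ⟨hb, hb'⟩⟩ := exists_common_over N (nonempty_nbhd ξ).some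
  rw [toX, ← ha', ← hb', Spec.map_comp, Spec.map_comp, Category.assoc, Category.assoc, ha, hb]

theorem ev_toX : Spec.map (ev ξ) ≫ toX ξ = ξ := by
  rw [← toX_eq (nonempty_nbhd ξ).some, ← Category.assoc, ← Spec.map_comp, Nbhd.germ_ev]
  exact (nonempty_nbhd ξ).some.w

instance isLocalRing_etaleLocalRing : IsLocalRing (EtBase.etaleLocalRing ξ) := isLocalRing

instance isLocalHom_ev : IsLocalHom (ev ξ).hom := ⟨fun r hr => (isUnit_iff r).2 hr.ne_zero⟩

theorem toX_closedPoint : (toX ξ).base (IsLocalRing.closedPoint (EtBase.etaleLocalRing ξ)) = ξ.base default := by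
  have h : (Spec.map (ev ξ)).base (IsLocalRing.closedPoint Ω) =
      IsLocalRing.closedPoint (EtBase.etaleLocalRing ξ) := Spec_closedPoint
  rw [← h, ← Scheme.Hom.comp_apply, ev_toX]
  exact congrArg ξ.base (Subsingleton.elim _ _)

end geom

variable (y : X)

local notation "Ks" => SeparableClosure (X.residueField y)

/-- The chosen geometric point over `y`. -/
noncomputable def ξ : Spec (CommRingCat.of Ks) ⟶ X :=
  Spec.map (CommRingCat.ofHom (algebraMap (X.residueField y) Ks)) ≫ X.fromSpecResidueField y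

theorem ξ_base (s : Spec (CommRingCat.of Ks)) : (ξ y).base s = y := by
  rw [ξ, Scheme.Hom.comp_apply]
  exact Scheme.fromSpecResidueField_apply y _

theorem exists_α : ∃ α : X.presheaf.stalk y ⟶ EtBase.etaleLocalRing (ξ y),
    IsLocalHom α.hom ∧ Spec.map α ≫ X.fromSpecStalk y = toX (ξ y) :=
  @exists_factor X y (EtBase.etaleLocalRing (ξ y)) _ isLocalRing_etaleLocalRing (toX (ξ y))
    (toX_closedPoint.trans (ξ_base y _))

/-- The structure map from the local ring. -/
noncomputable def α : X.presheaf.stalk y ⟶ EtBase.etaleLocalRing (ξ y) := (exists_α y).choose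

theorem α_spec : Spec.map (α y) ≫ X.fromSpecStalk y = toX (ξ y) := (exists_α y).choose_spec.2

noncomputable instance algebra : Algebra (X.presheaf.stalk y) (EtBase.etaleLocalRing (ξ y)) :=
  (α y).hom.toAlgebra

instance isLocalHom_algebraMap :
    IsLocalHom (algebraMap (X.presheaf.stalk y) (EtBase.etaleLocalRing (ξ y))) :=
  (exists_α y).choose_spec.1

theorem α_ev : α y ≫ ev (ξ y) = X.residue y ≫ CommRingCat.ofHom (algebraMap (X.residueField y) Ks) := by
  apply Spec.map_injective
  rw [← cancel_mono (X.fromSpecStalk y), Spec.map_comp, Category.assoc, α_spec, ev_toX, Spec.map_comp,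
    Category.assoc]
  rfl

theorem α_ev_apply (a : X.presheaf.stalk y) :
    ev (ξ y) (α y a) = algebraMap (X.residueField y) Ks (X.residue y a) :=
  congr(($(α_ev y)).hom a)

theorem ev_surjective : Function.Surjective (ev (ξ y)).hom := by
  intro θ
  let p := minpoly (X.residueField y) θ
  have hint : IsIntegral (X.residueField y) θ := (Algebra.IsSeparable.isSeparable (X.residueField y) θ).isIntegral
  have hsep : p.Separable := Algebra.IsSeparable.isSeparable (X.residueField y) θ
  obtain ⟨q, hq, -, hqm⟩ := lifts_and_natDegree_eq_and_monic (f := (X.residue y).hom)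
    (Polynomial.map_surjective _ (Scheme.residue_surjective X y) p) (minpoly.monic hint)
  have hc : (ev (ξ y)).hom.comp (α y).hom = (algebraMap (X.residueField y) Ks).comp (X.residue y).hom :=
    congrArg CommRingCat.Hom.hom (α_ev y)
  have h₀ : (q.map (α y).hom).eval₂ (ev (ξ y)).hom θ = 0 := by
    rw [eval₂_map, hc, ← eval₂_map, hq]
    exact minpoly.aeval (X.residueField y) θ
  have h₁ : (q.map (α y).hom).derivative.eval₂ (ev (ξ y)).hom θ ≠ 0 := by
    rw [derivative_map, eval₂_map, hc, ← eval₂_map, ← derivative_map, hq]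
    exact hsep.eval₂_derivative_ne_zero _ (minpoly.aeval (X.residueField y) θ)
  obtain ⟨a, -, ha⟩ := exists_root (q.map (α y).hom) (hqm.map _) θ h₀ h₁
  exact ⟨a, ha⟩

/-- The residue field. -/
noncomputable def resHom : IsLocalRing.ResidueField (EtBase.etaleLocalRing (ξ y)) →+* Ks :=
  IsLocalRing.ResidueField.lift (ev (ξ y)).hom

theorem resHom_residue (r : EtBase.etaleLocalRing (ξ y)) :
    resHom y (IsLocalRing.residue _ r) = ev (ξ y) r :=
  congrFun (congrArg DFunLike.coe (IsLocalRing.ResidueField.lift_comp_residue (ev (ξ y)).hom)) r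

/-- The residue field is the separable closure. -/
noncomputable def resEquiv : IsLocalRing.ResidueField (EtBase.etaleLocalRing (ξ y)) ≃+* Ks :=
  RingEquiv.ofBijective (resHom y) ⟨RingHom.injective _, fun θ => by
    obtain ⟨r, rfl⟩ := ev_surjective y θ
    exact ⟨_, resHom_residue y r⟩⟩

theorem resHom_map (a : IsLocalRing.ResidueField (X.presheaf.stalk y)) :
    resHom y (IsLocalRing.ResidueField.map (algebraMap (X.presheaf.stalk y) (EtBase.etaleLocalRing (ξ y))) a) =
      algebraMap (X.residueField y) Ks a := by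
  obtain ⟨a, rfl⟩ := IsLocalRing.residue_surjective a
  exact (resHom_residue y _).trans (α_ev_apply y a)

theorem isSepClosure : IsSepClosure (IsLocalRing.ResidueField (X.presheaf.stalk y))
    (IsLocalRing.ResidueField (EtBase.etaleLocalRing (ξ y))) := by
  refine ⟨(isStrictlyHenselian (ξ := ξ y)).2, ?_⟩
  letI : Algebra (IsLocalRing.ResidueField (X.presheaf.stalk y)) Ks :=
    inferInstanceAs (Algebra (X.residueField y) Ks)
  haveI : Algebra.IsSeparable (IsLocalRing.ResidueField (X.presheaf.stalk y)) Ks :=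
    inferInstanceAs (Algebra.IsSeparable (X.residueField y) Ks)
  let e : IsLocalRing.ResidueField (EtBase.etaleLocalRing (ξ y)) ≃ₐ[IsLocalRing.ResidueField (X.presheaf.stalk y)] Ks :=
    AlgEquiv.ofRingEquiv (f := resEquiv y) fun a => resHom_map y a
  exact AlgEquiv.Algebra.isSeparable e.symm

/-- The etale local ring is a strict henselization. -/
instance isStrictHenselization :
    Hensel.IsStrictHenselization (X.presheaf.stalk y) (EtBase.etaleLocalRing (ξ y)) where
  henselian := henselian
  isSepClosure := isSepClosure y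
  universal := by
    intro T _ _ f hf τ hτ
    let P := Scheme.pointSmallEtale (ξ y)
    let t : Spec (CommRingCat.of T) ⟶ X := Spec.map (CommRingCat.ofHom f) ≫ X.fromSpecStalk y
    let τ' : Ks →+* IsLocalRing.ResidueField T := τ.comp (resEquiv y).symm.toRingHom
    have hτ' : ∀ r, τ' (ev (ξ y) r) = τ (IsLocalRing.residue _ r) := fun r =>
      congrArg τ ((resEquiv y).symm_apply_eq.2 (resHom_residue y r).symm)
    have ht : EtFound.cpt T ≫ t = Spec.map (CommRingCat.ofHom τ') ≫ ξ y := by
      change Spec.map _ ≫ Spec.map _ ≫ X.fromSpecStalk y =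
        Spec.map _ ≫ Spec.map _ ≫ Spec.map (X.residue y) ≫ X.fromSpecStalk y
      simp only [← Category.assoc, ← Spec.map_comp]
      refine congrArg (Spec.map · ≫ _) (CommRingCat.hom_ext (RingHom.ext fun a => ?_))
      change IsLocalRing.residue T (f a) = τ' (algebraMap _ Ks (X.residue y a))
      rw [← α_ev_apply, hτ']
      exact (RingHom.congr_fun hτ (IsLocalRing.residue _ a)).symm
    let w : ∀ (U : X.Etale), P.fiber.obj U →
        (Spec (CommRingCat.of (IsLocalRing.ResidueField T)) ⟶ U.left) := fun U v =>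
      Spec.map (CommRingCat.ofHom τ') ≫ v.left
    have hw : ∀ (U : X.Etale) (v : P.fiber.obj U), w U v ≫ U.hom = EtFound.cpt T ≫ t := fun U v => by
      rw [ht]
      exact (Category.assoc _ _ _).trans (congrArg (_ ≫ ·) (CategoryTheory.Over.w v))
    have hl : ∀ (U : X.Etale) (v : P.fiber.obj U),
        ∃! l : Spec (CommRingCat.of T) ⟶ U.left, l ≫ U.hom = t ∧ EtFound.cpt T ≫ l = w U v := fun U v =>
      haveI : Etale U.hom := U.prop
      existsUnique_lift T t U.hom (w U v) (hw U v)
    choose l hl' hl'' using hl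
    let g : EtBase.etaleLocalRing (ξ y) ⟶ CommRingCat.of T :=
      P.presheafFiberDesc (fun U v => (l U v).appTop ≫ (Scheme.ΓSpecIso (CommRingCat.of T)).hom)
        (fun {U V} h v => by
          have : l U v ≫ h.left = l V (P.fiber.map h v) := hl'' V (P.fiber.map h v) _
            ⟨by rw [Category.assoc, MorphismProperty.Over.w h]; exact (hl' U v).1,
              (Category.assoc _ _ _).symm.trans ((congrArg (· ≫ h.left) (hl' U v).2).trans (Category.assoc _ _ _))⟩
          show h.left.appTop ≫ (l U v).appTop ≫ _ = _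
          rw [← this, Scheme.Hom.comp_appTop]
          exact (Category.assoc _ _ _).symm)
    have hgerm : ∀ N : Nbhd (ξ y), Spec.map (N.germ ≫ g) = l N.obj N.pt := fun N => by
      have e : N.germ ≫ g = (Scheme.ΓSpecIso N.B).inv ≫ (l N.obj N.pt).appTop ≫
          (Scheme.ΓSpecIso (CommRingCat.of T)).hom := by
        rw [Nbhd.germ, Category.assoc]
        erw [GrothendieckTopology.Point.toPresheafFiber_presheafFiberDesc _ _ _]
        rfl
      rw [e]
      obtain ⟨ψ, hψ⟩ := Spec.map_surjective (S := CommRingCat.of T) (l N.obj N.pt : Spec (CommRingCat.of T) ⟶ Spec N.B)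
      rw [← hψ]
      congr 1
      refine (Scheme.ΓSpecIso_inv_naturality_assoc (S := CommRingCat.of T) ψ _).symm.trans ?_
      exact (congrArg (ψ ≫ ·) (Iso.inv_hom_id _)).trans (Category.comp_id _)
    have hgα : α y ≫ g = CommRingCat.ofHom f := by
      apply Spec.map_injective
      rw [← cancel_mono (X.fromSpecStalk y), Spec.map_comp, Category.assoc, α_spec]
      let N := (nonempty_nbhd (ξ y)).some
      rw [← toX_eq N, ← Category.assoc, ← Spec.map_comp, hgerm]
      exact (hl' _ _).1
    refine ⟨g.hom, ⟨congrArg CommRingCat.Hom.hom hgα, fun x => ?_⟩, fun g' hg' => ?_⟩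
    · obtain ⟨N, b, rfl⟩ := exists_germ_eq x
      rw [← hτ', germ_ev_apply]
      have h : (N.germ ≫ g) ≫ CommRingCat.ofHom (IsLocalRing.residue T) = N.φ ≫ CommRingCat.ofHom τ' := by
        apply Spec.map_injective
        rw [Spec.map_comp, hgerm, Spec.map_comp]
        exact (hl' _ _).2
      exact congr(($h).hom b)
    · refine RingHom.ext fun x => ?_
      obtain ⟨N, b, rfl⟩ := exists_germ_eq x
      let G' : EtBase.etaleLocalRing (ξ y) ⟶ CommRingCat.of T := CommRingCat.ofHom g'
      have h : N.germ ≫ G' = N.germ ≫ g := by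
        apply Spec.map_injective
        rw [hgerm]
        refine hl'' N.obj N.pt _ ⟨?_, ?_⟩
        · change Spec.map (N.germ ≫ G') ≫ N.g = _
          rw [Spec.map_comp, Category.assoc, toX_eq, ← α_spec y, ← Category.assoc, ← Spec.map_comp,
            show α y ≫ G' = CommRingCat.ofHom f from CommRingCat.hom_ext hg'.1]
        · change EtFound.cpt T ≫ Spec.map (N.germ ≫ G') = Spec.map _ ≫ Spec.map N.φ
          rw [← Spec.map_comp, ← Spec.map_comp]
          refine congrArg Spec.map (CommRingCat.hom_ext (RingHom.ext fun c => ?_))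
          change IsLocalRing.residue T (g' (N.germ c)) = τ' (N.φ c)
          rw [hg'.2, ← germ_ev_apply, hτ']
      exact congr(($h).hom b)

end

end Groth.Agent.CdLib.EtaleStrictHens
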