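import Groth.Agent.EtFound.CoprodSections
import Groth.Agent.EtFound.Basic
import Mathlib.RingTheory.Unramified.Finite
import Mathlib.RingTheory.Unramified.Field
import Mathlib.RingTheory.Unramified.LocalRing
import Mathlib.AlgebraicGeometry.Morphisms.Etale
import Mathlib.RingTheory.Unramified.LocalStructure
import Mathlib.AlgebraicGeometry.Morphisms.FormallyUnramified
import Mathlib.AlgebraicGeometry.Morphisms.QuasiFinite

/-! The decomposition of an étale scheme over a field into its points. -/

set_option autoImplicit false
set_option backward.isDefEq.respectTransparency.types false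

universe u

open CategoryTheory CategoryTheory.Limits AlgebraicGeometry Opposite

namespace Groth.Agent.CdLib.Components

open Groth.Agent.EtFound

variable {K : Type u} [Field K] (U : (Spec (CommRingCat.of K)).Etale)

theorem discreteTopology : DiscreteTopology U.left := by
  let s : U.left ⟶ Spec (CommRingCat.of K) := U.hom
  haveI : AlgebraicGeometry.Etale s := U.prop
  haveI : LocallyQuasiFinite s := by
    rw [HasRingHomProperty.iff_appLE (P := @LocallyQuasiFinite)]
    intro U' V' e'
    have h1 : (s.appLE U' V' e').hom.FormallyUnramified :=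
      HasRingHomProperty.appLE (P := @FormallyUnramified) s inferInstance U' V' e'
    have h2 : (s.appLE U' V' e').hom.FiniteType :=
      HasRingHomProperty.appLE (P := @LocallyOfFiniteType) s inferInstance U' V' e'
    algebraize [(s.appLE U' V' e').hom]
    exact (inferInstance : Algebra.QuasiFinite Γ(Spec (CommRingCat.of K), U') Γ(U.left, V'))
  have h := s.isDiscrete_preimage_singleton (default : Spec (CommRingCat.of K))
  rw [show s.base ⁻¹' {(default : Spec (CommRingCat.of K))} = Set.univ from
    Set.eq_univ_of_forall fun x => Subsingleton.elim _ _] at h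
  exact isDiscrete_univ_iff.1 h

theorem finite [CompactSpace U.left] : Finite U.left := by
  haveI := discreteTopology U
  exact finite_of_compact_of_discrete

/-- The open subscheme at one point. -/
noncomputable def single (x : U.left) : U.left.Opens :=
  ⟨{x}, @isOpen_discrete _ _ (discreteTopology U) _⟩

theorem mem_single {x y : U.left} : y ∈ single U x ↔ y = x := Iff.rfl

theorem isAffineOpen_single (x : U.left) : IsAffineOpen (single U x) := by
  obtain ⟨O, hO, hxO, hsub⟩ := exists_isAffineOpen_mem_and_subset (U := single U x) (mem_single U |>.2 rfl)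
  have : O = single U x := SetLike.coe_injective
    (subset_antisymm hsub fun y hy => ((mem_single U).1 hy) ▸ hxO)
  exact this ▸ hO

theorem isField_single (x : U.left) : IsField Γ(U.left, single U x) := by
  let s : U.left ⟶ Spec (CommRingCat.of K) := U.hom
  haveI : AlgebraicGeometry.Etale s := U.prop
  have hO := isAffineOpen_single U x
  let i : Spec Γ(U.left, single U x) ⟶ U.left := hO.fromSpec
  obtain ⟨φ, hφ⟩ := Spec.map_surjective (R := CommRingCat.of K) (i ≫ s)
  algebraize [φ.hom]
  haveI his : AlgebraicGeometry.Etale (i ≫ s) := inferInstance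
  have : Algebra.Etale K Γ(U.left, single U x) := RingHom.etale_algebraMap.1
    ((HasRingHomProperty.Spec_iff (P := @AlgebraicGeometry.Etale)).mp (hφ.symm ▸ his))
  haveI : IsReduced Γ(U.left, single U x) := Algebra.FormallyUnramified.isReduced_of_field K _
  haveI : Nontrivial Γ(U.left, single U x) := by
    obtain ⟨p, -⟩ := hO.range_fromSpec.ge ((mem_single U).2 (rfl : x = x))
    exact PrimeSpectrum.nontrivial p
  haveI : Subsingleton (PrimeSpectrum Γ(U.left, single U x)) := ⟨fun p r => i.isOpenEmbedding.injective
    (((mem_single U).1 (hO.range_fromSpec.le ⟨p, rfl⟩)).trans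
      ((mem_single U).1 (hO.range_fromSpec.le ⟨r, rfl⟩)).symm)⟩
  obtain ⟨M, hM⟩ := Ideal.exists_maximal Γ(U.left, single U x)
  have hbot : M = ⊥ := by
    rw [eq_bot_iff]
    refine le_trans ?_ (nilradical_eq_zero Γ(U.left, single U x)).le
    rw [nilradical_eq_sInf]
    refine le_sInf fun P hP => le_of_eq ?_
    exact congrArg PrimeSpectrum.asIdeal
      (Subsingleton.elim (⟨M, hM.isPrime⟩ : PrimeSpectrum Γ(U.left, single U x)) ⟨P, hP⟩)
  exact Ring.isField_iff_maximal_bot.2 (hbot ▸ hM)

/-- The component at a point. -/
noncomputable def comp (x : U.left) : (Spec (CommRingCat.of K)).Etale :=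
  let s : U.left ⟶ Spec (CommRingCat.of K) := U.hom
  haveI : AlgebraicGeometry.Etale s := U.prop
  Scheme.Etale.mk ((single U x).ι ≫ s)

/-- Its inclusion. -/
noncomputable def incl (x : U.left) : comp U x ⟶ U :=
  MorphismProperty.Over.homMk (single U x).ι rfl

instance (x : U.left) : Mono (incl U x) :=
  ⟨fun a b h => by
    apply MorphismProperty.Over.Hom.ext
    exact (cancel_mono (single U x).ι).1 congr(($h).left)⟩

theorem bijective_sections (F : EtCoh.Ab (Spec (CommRingCat.of K))) :
    Function.Bijective (fun (s : F.obj.obj (op U)) (x : U.left) => F.obj.map (incl U x).op s) :=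
  bijective_sections_of_disjoint F (comp U) (incl U) (fun x => ⟨x, ⟨x, (mem_single U).2 rfl⟩, rfl⟩)
    (fun x y hxy a b hab => hxy (((mem_single U).1 a.2).symm.trans
      ((congrArg id hab).trans ((mem_single U).1 b.2))))

end Groth.Agent.CdLib.Components
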