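import Groth.Agent.CdLib.FieldTransfer
import Groth.Agent.EtFound.GermSupp
import Groth.Agent.EtFound.PullGerm
import Groth.Prelude.Def_EtCore
import Mathlib.FieldTheory.Galois.Infinite

/-! Sections over a separable algebraic extension come from finite subextensions. -/

set_option autoImplicit false
set_option backward.isDefEq.respectTransparency.types false

universe u

open CategoryTheory CategoryTheory.Limits AlgebraicGeometry Opposite

namespace Groth.Agent.CdLib.SepLimit

open Groth.Agent.EtFound

/-- Germs are injective at one-point objects. -/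
theorem germ_injective {X : Scheme.{u}} (F : EtCoh.Ab X) (W : X.Etale) [Subsingleton W.left]
    {Ω : Type u} [Field Ω] [IsSepClosed Ω] {ξ : Spec (CommRingCat.of Ω) ⟶ X}
    (z : (Scheme.pointSmallEtale ξ).fiber.obj W) :
    Function.Injective ((Scheme.pointSmallEtale ξ).toPresheafFiber W z F.obj) := by
  intro a b hab
  refine eq_of_cover F a b (equalizerSieve_mem_of_germs _ _ _ _ fun Ω' _ _ η t => ?_)
  rw [← sub_eq_zero, ← map_sub]
  by_contra h
  refine (mem_germSupp_iff (a - b) z).1 ?_ ((map_sub _ _ _).trans (sub_eq_zero.2 hab))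
  rw [Subsingleton.elim (ptOf z) (ptOf t)]
  exact (mem_germSupp_iff (a - b) t).2 h

variable (K : Type u) [Field K]

/-- The geometric point of a field at its separable closure. -/
noncomputable abbrev σ : Spec (CommRingCat.of (SeparableClosure K)) ⟶ Spec (CommRingCat.of K) :=
  Spec.map (CommRingCat.ofHom (algebraMap K (SeparableClosure K)))

variable {K}

/-- The étale object of a finite separable extension. -/
noncomputable def obj (E : Type u) [Field E] [Algebra K E] [FiniteDimensional K E]
    [Algebra.IsSeparable K E] : (Spec (CommRingCat.of K)).Etale :=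
  haveI : AlgebraicGeometry.Etale (Spec.map (CommRingCat.ofHom (algebraMap K E))) := by
    rw [HasRingHomProperty.Spec_iff (P := @AlgebraicGeometry.Etale)]
    haveI : Algebra.FormallyEtale K E := Algebra.FormallyEtale.of_isSeparable K E
    haveI : Algebra.FinitePresentation K E := Algebra.FinitePresentation.of_finiteType.1 inferInstance
    exact RingHom.etale_algebraMap.2 {}
  Scheme.Etale.mk (Spec.map (CommRingCat.ofHom (algebraMap K E)))

section pts

variable {E : Type u} [Field E] [Algebra K E] [FiniteDimensional K E] [Algebra.IsSeparable K E]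

instance : Subsingleton (obj (K := K) E).left :=
  inferInstanceAs (Subsingleton ↥(Spec (CommRingCat.of E)))

/-- The point given by an embedding. -/
noncomputable def pt (j : E →ₐ[K] SeparableClosure K) :
    (Scheme.pointSmallEtale (σ K)).fiber.obj (obj E) :=
  CategoryTheory.Over.homMk (Spec.map (CommRingCat.ofHom j.toRingHom)) (by
    change Spec.map _ ≫ Spec.map _ = _
    rw [← Spec.map_comp]
    refine congrArg Spec.map ?_
    apply CommRingCat.hom_ext
    exact j.comp_algebraMap)

variable {E' : Type u} [Field E'] [Algebra K E'] [FiniteDimensional K E'] [Algebra.IsSeparable K E']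

/-- Functoriality. -/
noncomputable def map (f : E →ₐ[K] E') : obj (K := K) E' ⟶ obj E :=
  MorphismProperty.Over.homMk (Spec.map (CommRingCat.ofHom f.toRingHom)) (by
    change Spec.map _ ≫ Spec.map _ = Spec.map _
    rw [← Spec.map_comp]
    refine congrArg Spec.map ?_
    ext r
    exact f.commutes r)

theorem map_pt (f : E →ₐ[K] E') (j : E' →ₐ[K] SeparableClosure K) :
    (Scheme.pointSmallEtale (σ K)).fiber.map (map f) (pt j) = pt (j.comp f) := by
  apply CategoryTheory.Over.OverMorphism.ext
  change Spec.map (CommRingCat.ofHom j.toRingHom) ≫ Spec.map (CommRingCat.ofHom f.toRingHom) = Spec.map _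
  rw [← Spec.map_comp]
  rfl

end pts

/-- A stalk element which is fixed by the automorphisms over `L` comes from a finite subextension
contained in `L`. -/
theorem exists_descent (F : EtCoh.Ab (Spec (CommRingCat.of K)))
    (L : IntermediateField K (SeparableClosure K)) (m : (EtCoh.stalk (σ K)).obj F)
    (hm : ∀ (γ : SeparableClosure K ≃ₐ[K] SeparableClosure K), γ ∈ L.fixingSubgroup →
      ∀ (W : (Spec (CommRingCat.of K)).Etale) (z z' : (Scheme.pointSmallEtale (σ K)).fiber.obj W)
        (a : F.obj.obj (op W)),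
        (Scheme.pointSmallEtale (σ K)).toPresheafFiber W z F.obj a = m →
        (z'.left : Spec (CommRingCat.of (SeparableClosure K)) ⟶ W.left) =
          Spec.map (CommRingCat.ofHom γ.toAlgHom.toRingHom) ≫ z.left →
        (Scheme.pointSmallEtale (σ K)).toPresheafFiber W z' F.obj a = m) :
    ∃ (E : Type u) (_ : Field E) (_ : Algebra K E) (_ : FiniteDimensional K E)
      (_ : Algebra.IsSeparable K E) (j : E →ₐ[K] SeparableClosure K),
        (∀ x, j x ∈ L) ∧ ∃ a : F.obj.obj (op (obj E)),
          (Scheme.pointSmallEtale (σ K)).toPresheafFiber (obj E) (pt j) F.obj a = m := by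
  let P := Scheme.pointSmallEtale (σ K)
  obtain ⟨U, u, s, rfl⟩ := P.toPresheafFiber_jointly_surjective m
  let f : U.left ⟶ Spec (CommRingCat.of K) := U.hom
  haveI : AlgebraicGeometry.Etale f := U.prop
  obtain ⟨N, hN, w, hw⟩ : ∃ (N : FiniteGaloisIntermediateField K (SeparableClosure K))
      (_ : True) (w : obj (K := K) N ⟶ U), P.fiber.map w (pt N.toIntermediateField.val) = u := by
    obtain ⟨C0, i, hi, ⟨c, hc⟩, -⟩ := Scheme.exists_affine_mem_range_and_range_subset
      (x := ptOf u) (U := (⊤ : U.left.Opens)) (by simp)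
    obtain ⟨u₀, hu₀, -⟩ : ∃ u₀ : Spec (CommRingCat.of (SeparableClosure K)) ⟶ Spec C0,
        u₀ ≫ i = (u.left : Spec (CommRingCat.of (SeparableClosure K)) ⟶ U.left) ∧ True := by
      refine ⟨IsOpenImmersion.lift i (u.left : Spec (CommRingCat.of (SeparableClosure K)) ⟶ U.left) ?_,
        IsOpenImmersion.lift_fac _ _ _, trivial⟩
      rintro _ ⟨w, rfl⟩
      rw [Subsingleton.elim w default]
      exact ⟨c, hc⟩
    obtain ⟨φ, hφ⟩ := Spec.map_surjective (R := CommRingCat.of K) (i ≫ f)
    obtain ⟨ψ, rfl⟩ := Spec.map_surjective u₀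
    algebraize [φ.hom]
    haveI hif : AlgebraicGeometry.Etale (i ≫ f) := inferInstance
    have : Algebra.Etale K C0 := RingHom.etale_algebraMap.1
      ((HasRingHomProperty.Spec_iff (P := @AlgebraicGeometry.Etale)).mp (hφ.symm ▸ hif))
    have hψ : φ ≫ ψ = CommRingCat.ofHom (algebraMap K (SeparableClosure K)) := by
      apply Spec.map_injective
      rw [Spec.map_comp, hφ, ← Category.assoc, hu₀]
      exact CategoryTheory.Over.w u
    let ψa : C0 →ₐ[K] SeparableClosure K := { ψ.hom with commutes' := fun r => congr($(hψ).hom r) }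
    obtain ⟨t, ht⟩ := (inferInstance : Algebra.FiniteType K C0).out
    let N := FiniteGaloisIntermediateField.adjoin K (ψa '' (t : Set C0))
    have hmem : ∀ c, ψa c ∈ N.toIntermediateField.toSubalgebra := by
      intro c
      have h2 : ψa c ∈ Algebra.adjoin K (ψa '' (t : Set C0)) := by
        rw [← AlgHom.map_adjoin]
        exact ⟨c, ht ▸ Algebra.mem_top, rfl⟩
      exact Algebra.adjoin_le (FiniteGaloisIntermediateField.subset_adjoin K _) h2
    let χ : C0 →ₐ[K] N := ψa.codRestrict _ hmem
    have hχ : φ ≫ CommRingCat.ofHom χ.toRingHom = CommRingCat.ofHom (algebraMap K N) := by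
      apply CommRingCat.hom_ext
      exact χ.comp_algebraMap
    let w : obj (K := K) N ⟶ U :=
      MorphismProperty.Over.homMk (Spec.map (CommRingCat.ofHom χ.toRingHom) ≫ i) (by
        change (Spec.map _ ≫ i) ≫ f = Spec.map _
        rw [Category.assoc, ← hφ, ← Spec.map_comp, hχ])
    refine ⟨N, trivial, w, ?_⟩
    apply CategoryTheory.Over.OverMorphism.ext
    change Spec.map (CommRingCat.ofHom N.toIntermediateField.val.toRingHom) ≫
      Spec.map (CommRingCat.ofHom χ.toRingHom) ≫ i = u.left
    rw [← Category.assoc, ← Spec.map_comp]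
    exact hu₀
  let a : F.obj.obj (op (obj (K := K) N)) := F.obj.map w.op s
  have ha : P.toPresheafFiber (obj (K := K) N) (pt N.toIntermediateField.val) F.obj a =
      P.toPresheafFiber U u F.obj s :=
    (P.toPresheafFiber_w_apply w _ F.obj s).trans (by rw [hw])
  let ι := N.toIntermediateField.val
  haveI : Normal K N := IsGalois.to_normal
  let H : Subgroup (N ≃ₐ[K] N) := L.fixingSubgroup.map
    (AlgEquiv.restrictNormalHom (F := K) (K₁ := SeparableClosure K) N)
  let E := IntermediateField.fixedField H
  let j : E →ₐ[K] SeparableClosure K := ι.comp E.val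
  have hjL : ∀ x, j x ∈ L := by
    intro x
    rw [← InfiniteGalois.fixedField_fixingSubgroup L]
    rintro ⟨γ, hγ⟩
    have h1 : (AlgEquiv.restrictNormalHom N γ) x.1 = x.1 := x.2 ⟨_, Subgroup.mem_map_of_mem _ hγ⟩
    exact (AlgEquiv.restrictNormal_commutes γ N x.1).symm.trans (congrArg Subtype.val h1)
  let π : obj (K := K) N ⟶ obj E := map E.val
  have hinv : ∀ (δ : N ≃ₐ[E] N) (gW : obj (K := K) N ⟶ obj (K := K) N),
      (Iso.refl (Spec (CommRingCat.of N))).hom ≫ gW.left =
        Spec.map (CommRingCat.ofHom δ.toAlgHom.toRingHom) ≫ (Iso.refl (Spec (CommRingCat.of N))).hom →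
      F.obj.map gW.op a = a := by
    intro δ gW hgW
    have hδ : (δ.restrictScalars K) ∈ H := by
      rw [← IntermediateField.fixingSubgroup_fixedField H]
      rintro ⟨x, hx⟩
      exact δ.commutes ⟨x, hx⟩
    obtain ⟨γ, hγ, hγδ⟩ := hδ
    apply germ_injective F _ (pt ι)
    refine ((P.toPresheafFiber_w_apply gW (pt ι) F.obj a).trans ?_).trans ha.symm
    refine hm γ hγ _ (pt ι) _ a ha ?_
    change Spec.map (CommRingCat.ofHom ι.toRingHom) ≫ gW.left =
      Spec.map (CommRingCat.ofHom γ.toAlgHom.toRingHom) ≫ Spec.map (CommRingCat.ofHom ι.toRingHom)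
    have hg : gW.left = Spec.map (CommRingCat.ofHom δ.toAlgHom.toRingHom) :=
      ((Category.id_comp gW.left).symm.trans hgW).trans (Category.comp_id _)
    rw [hg]
    refine (Spec.map_comp _ _).symm.trans (Eq.trans (congrArg Spec.map ?_) (Spec.map_comp _ _))
    apply CommRingCat.hom_ext
    apply RingHom.ext
    intro x
    exact (congrArg (fun e : N ≃ₐ[K] N => ι (e x)) hγδ).symm.trans (AlgEquiv.restrictNormal_commutes γ N x)
  obtain ⟨a₀, ha₀⟩ := FieldTransfer.galois_descend (L := E) (N := N) π (Iso.refl _)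
    (eW := Iso.refl _) ((Category.id_comp _).trans (Category.comp_id _).symm) F a hinv
  refine ⟨E, inferInstance, inferInstance, inferInstance, inferInstance, j, hjL, a₀, ?_⟩
  rw [← map_pt E.val ι, ← P.toPresheafFiber_w_apply, ha₀]
  exact ha

/-- Sections over `Spec L` give stalk elements fixed by the automorphisms over `L`. -/
theorem exists_of_section (F : EtCoh.Ab (Spec (CommRingCat.of K)))
    (L : IntermediateField K (SeparableClosure K))
    (ζ : Spec (CommRingCat.of (SeparableClosure K)) ⟶ Spec (CommRingCat.of L))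
    (hζ : ζ = Spec.map (CommRingCat.ofHom L.val.toRingHom))
    (π : Spec (CommRingCat.of L) ⟶ Spec (CommRingCat.of K)) (hπ : ζ ≫ π = σ K)
    (s : ((EtCoh.pull π).obj F).obj.obj (op (EtCoh.top _))) :
    ∃ (E : Type u) (_ : Field E) (_ : Algebra K E) (_ : FiniteDimensional K E)
      (_ : Algebra.IsSeparable K E) (j : E →ₐ[K] SeparableClosure K),
        (∀ x, j x ∈ L) ∧ ∃ (a : F.obj.obj (op (obj E)))
          (t : (Scheme.pointSmallEtale ζ).fiber.obj ((EtCoh.bc π).obj (obj E))),
          ((bcFiberEquiv π ζ (obj E) t).left : Spec (CommRingCat.of (SeparableClosure K)) ⟶ (obj (K := K) E).left) =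
              Spec.map (CommRingCat.ofHom j.toRingHom) ∧
          (Scheme.pointSmallEtale ζ).toPresheafFiber _ t ((EtCoh.pull π).obj F).obj
              (((EtCoh.pullPushAdj π).unit.app F).hom.app (op (obj E)) a) =
            (Scheme.pointSmallEtale ζ).toPresheafFiber (EtCoh.top _)
              (CategoryTheory.Over.homMk ζ (Category.comp_id _)) ((EtCoh.pull π).obj F).obj s := by
  subst hζ
  revert hπ
  intro hπ
  let ζ : Spec (CommRingCat.of (SeparableClosure K)) ⟶ Spec (CommRingCat.of L) :=
    Spec.map (CommRingCat.ofHom L.val.toRingHom)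
  let P := Scheme.pointSmallEtale (σ K)
  let Q := Scheme.pointSmallEtale ζ
  let top₀ : Q.fiber.obj (EtCoh.top _) := CategoryTheory.Over.homMk ζ (Category.comp_id _)
  let M := Q.toPresheafFiber (EtCoh.top _) top₀ ((EtCoh.pull π).obj F).obj s
  have htr : ∀ (W : (Spec (CommRingCat.of K)).Etale) (z : P.fiber.obj W),
      ∃ t : Q.fiber.obj ((EtCoh.bc π).obj W),
        ((bcFiberEquiv π ζ W t).left : Spec (CommRingCat.of (SeparableClosure K)) ⟶ W.left) = z.left := by
    intro W z
    let z₀ : (Scheme.pointSmallEtale (ζ ≫ π)).fiber.obj W :=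
      CategoryTheory.Over.homMk (z.left : Spec (CommRingCat.of (SeparableClosure K)) ⟶ W.left)
        ((CategoryTheory.Over.w z).trans hπ.symm)
    exact ⟨(bcFiberEquiv π ζ W).symm z₀, congrArg CommaMorphism.left ((bcFiberEquiv π ζ W).apply_symm_apply z₀)⟩
  let e := ((sheafFiberPullIso (A := AddCommGrpCat.{u + 1}) π ζ).app F).symm
  have hcongr : ∀ {η : Spec (CommRingCat.of (SeparableClosure K)) ⟶ Spec (CommRingCat.of K)} (h : η = σ K),
      ∃ b : (EtCoh.stalk η).obj F ≅ (EtCoh.stalk (σ K)).obj F,
        ∀ (W : (Spec (CommRingCat.of K)).Etale) (z : (Scheme.pointSmallEtale η).fiber.obj W) (z' : P.fiber.obj W)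
          (a : F.obj.obj (op W)), (z.left : Spec (CommRingCat.of (SeparableClosure K)) ⟶ W.left) = z'.left →
          b.hom ((Scheme.pointSmallEtale η).toPresheafFiber W z F.obj a) = P.toPresheafFiber W z' F.obj a := by
    intro η h
    subst h
    refine ⟨Iso.refl _, fun W z z' a hz => ?_⟩
    rw [show z = z' from CategoryTheory.Over.OverMorphism.ext hz]
    rfl
  obtain ⟨b, hb⟩ := hcongr hπ
  let g := e.symm ≪≫ b
  have hg : ∀ (W : (Spec (CommRingCat.of K)).Etale) (z : P.fiber.obj W) (t : Q.fiber.obj ((EtCoh.bc π).obj W))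
      (a : F.obj.obj (op W)),
      ((bcFiberEquiv π ζ W t).left : Spec (CommRingCat.of (SeparableClosure K)) ⟶ W.left) = z.left →
      g.hom (Q.toPresheafFiber _ t ((EtCoh.pull π).obj F).obj
        (((EtCoh.pullPushAdj π).unit.app F).hom.app (op W) a)) = P.toPresheafFiber W z F.obj a := by
    intro W z t a hzt
    have h1 : e.hom ((Scheme.pointSmallEtale (ζ ≫ π)).toPresheafFiber W (bcFiberEquiv π ζ W t) F.obj a) =
        Q.toPresheafFiber _ t ((EtCoh.pull π).obj F).obj
          (((EtCoh.pullPushAdj π).unit.app F).hom.app (op W) a) :=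
      ConcreteCategory.congr_hom (sheafFiberPullIso_germ π ζ F W t) a
    rw [← h1]
    refine Eq.trans ?_ (hb W (bcFiberEquiv π ζ W t) z a hzt)
    exact congrArg b.hom (ConcreteCategory.congr_hom e.hom_inv_id _)
  have hinj : Function.Injective g.hom := g.addCommGroupIsoToAddEquiv.injective
  obtain ⟨E, i1, i2, i3, i4, j, hjL, a, ha⟩ := exists_descent F L (g.hom M) fun γ hγ W z z' a hz hz' => by
    obtain ⟨t, ht⟩ := htr W z
    obtain ⟨t', ht'⟩ := htr W z'
    rw [← hg W z' t' a ht']
    refine congrArg g.hom ?_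
    let Bobj := (EtCoh.bc π).obj W
    let toTop : Bobj ⟶ EtCoh.top (Spec (CommRingCat.of L)) := (EtCore.topIsTerminal _).from Bobj
    let S : ((EtCoh.pull π).obj F).obj.obj (op Bobj) := ((EtCoh.pull π).obj F).obj.map toTop.op s
    have hS : ∀ v : Q.fiber.obj Bobj, Q.toPresheafFiber _ v ((EtCoh.pull π).obj F).obj S = M := fun v => by
      rw [show Q.toPresheafFiber Bobj v ((EtCoh.pull π).obj F).obj S = _ from
        Q.toPresheafFiber_w_apply toTop v _ s]
      refine congrArg (fun k => Q.toPresheafFiber _ k ((EtCoh.pull π).obj F).obj s) ?_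
      apply CategoryTheory.Over.OverMorphism.ext
      have h := CategoryTheory.Over.w (Q.fiber.map toTop v)
      exact (Category.comp_id _).symm.trans h
    let A : ((EtCoh.pull π).obj F).obj.obj (op Bobj) := ((EtCoh.pullPushAdj π).unit.app F).hom.app (op W) a
    let D := A - S
    have hD : Q.toPresheafFiber Bobj t ((EtCoh.pull π).obj F).obj D = 0 := by
      rw [map_sub, hS, sub_eq_zero]
      apply hinj
      rw [hg W z t a ht, hz]
    have hpt : ptOf t' = ptOf t := by
      have hlift : (t'.left : Spec (CommRingCat.of (SeparableClosure K)) ⟶ pullback W.hom π) =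
          Spec.map (CommRingCat.ofHom γ.toAlgHom.toRingHom) ≫ t.left := by
        refine pullback.hom_ext ?_ ?_
        · refine (ht'.trans hz').trans ?_
          exact (congrArg _ ht.symm).trans (Category.assoc _ _ _).symm
        · refine (CategoryTheory.Over.w t').trans (Eq.trans ?_ (Category.assoc _ _ _).symm)
          refine Eq.trans ?_ (congrArg (_ ≫ ·) (CategoryTheory.Over.w t)).symm
          change Spec.map _ = Spec.map _ ≫ Spec.map _
          rw [← Spec.map_comp]
          refine congrArg Spec.map ?_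
          apply CommRingCat.hom_ext
          apply RingHom.ext
          intro x
          exact ((IntermediateField.mem_fixingSubgroup_iff L γ).1 hγ x.1 x.2).symm
      unfold ptOf
      rw [hlift]
      exact (Scheme.Hom.comp_apply _ _ _).trans (congrArg _ (Subsingleton.elim _ _))
    have hD' : Q.toPresheafFiber Bobj t' ((EtCoh.pull π).obj F).obj D = 0 := by
      by_contra h
      exact (mem_germSupp_iff D t).1 (hpt ▸ (mem_germSupp_iff D t').2 h) hD
    rw [map_sub, hS, sub_eq_zero] at hD'
    exact hD'
  obtain ⟨t, ht⟩ := htr (obj E) (pt j)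
  exact ⟨E, i1, i2, i3, i4, j, hjL, a, t, ht, hinj ((hg _ _ t a ht).trans ha)⟩

end Groth.Agent.CdLib.SepLimit
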