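import Groth.Agent.EtFound.PointHom
import Groth.Agent.CdLib.Components
import Groth.Agent.CdLib.SepLimit
import Groth.Agent.EtLC12.StrictStalk
import Mathlib.CategoryTheory.Filtered.Final
import Mathlib.CategoryTheory.Limits.Final.Type
import Mathlib.FieldTheory.IntermediateField.Adjoin.Algebra

/-! Branches at a geometric point `ξ` of the image of a point `i : Spec K ⟶ X`: specialisation
morphisms from the separable point over `i` to `ξ`, with their fields. -/

set_option autoImplicit false
set_option backward.isDefEq.respectTransparency.types false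

universe u

open CategoryTheory CategoryTheory.Limits AlgebraicGeometry Opposite

namespace Groth.Agent.CdLib.Branch

open Groth.Agent.EtFound

variable {X : Scheme.{u}} {K : Type u} [Field K] (i : Spec (CommRingCat.of K) ⟶ X)
  {Ω : Type u} [Field Ω] [IsSepClosed Ω] (ξ : Spec (CommRingCat.of Ω) ⟶ X)

local notation "Ks" => SeparableClosure K

/-- A branch. -/
abbrev Br : Type (u + 1) :=
  Scheme.pointSmallEtale (SepLimit.σ K ≫ i) ⟶ Scheme.pointSmallEtale ξ

variable {i ξ}

/-- The point of the base change singled out by a branch. -/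
noncomputable def bp (φ : Br i ξ) {V : X.Etale} (v : (Scheme.pointSmallEtale ξ).fiber.obj V) :
    (Scheme.pointSmallEtale (SepLimit.σ K)).fiber.obj ((EtCoh.bc i).obj V) :=
  (bcFiberEquiv i (SepLimit.σ K) V).symm (φ.hom.app V v)

theorem bp_map (φ : Br i ξ) {V W : X.Etale} (g : V ⟶ W) (v : (Scheme.pointSmallEtale ξ).fiber.obj V) :
    (Scheme.pointSmallEtale (SepLimit.σ K)).fiber.map ((EtCoh.bc i).map g) (bp φ v) =
      bp φ ((Scheme.pointSmallEtale ξ).fiber.map g v) := by
  apply (bcFiberEquiv i (SepLimit.σ K) W).injective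
  rw [bp, bp, Equiv.apply_symm_apply, NatTrans.naturality_apply φ.hom g v]
  have h := ConcreteCategory.congr_hom ((bcFiberIso i (SepLimit.σ K)).hom.naturality g)
    ((bcFiberEquiv i (SepLimit.σ K) V).symm (φ.hom.app V v))
  refine Eq.trans h ?_
  exact congrArg ((Scheme.pointSmallEtale (SepLimit.σ K ≫ i)).fiber.map g)
    ((bcFiberEquiv i (SepLimit.σ K) V).apply_symm_apply _)

theorem bp_left_fst (φ : Br i ξ) {V : X.Etale} (v : (Scheme.pointSmallEtale ξ).fiber.obj V) :
    ((bp φ v).left : Spec (CommRingCat.of Ks) ⟶ pullback V.hom i) ≫ pullback.fst V.hom i =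
      ((φ.hom.app V v).left : Spec (CommRingCat.of Ks) ⟶ V.left) :=
  congrArg CommaMorphism.left ((bcFiberEquiv i (SepLimit.σ K) V).apply_symm_apply (φ.hom.app V v))

variable (φ : Br i ξ)

/-- Evaluation of the strictly local ring along a branch. -/
noncomputable def β : EtBase.etaleLocalRing ξ ⟶ CommRingCat.of Ks :=
  (Scheme.pointSmallEtale ξ).presheafFiberDesc
    (fun V v => (φ.hom.app V v).left.appTop ≫ (Scheme.ΓSpecIso (CommRingCat.of Ks)).hom)
    (fun {U V} f v => by
      show f.left.appTop ≫ (φ.hom.app U v).left.appTop ≫ _ =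
        (φ.hom.app V ((Scheme.pointSmallEtale ξ).fiber.map f v)).left.appTop ≫ _
      rw [NatTrans.naturality_apply φ.hom f v]
      show _ = ((φ.hom.app U v).left ≫ f.left).appTop ≫ _
      rw [Scheme.Hom.comp_appTop, Category.assoc]
      rfl)

/-- The value of a global function at the branch. -/
theorem β_germ (V : X.Etale) (v : (Scheme.pointSmallEtale ξ).fiber.obj V) :
    (Scheme.pointSmallEtale ξ).toPresheafFiber V v (EtBase.OO X) ≫ β φ =
      (φ.hom.app V v).left.appTop ≫ (Scheme.ΓSpecIso (CommRingCat.of Ks)).hom :=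
  GrothendieckTopology.Point.toPresheafFiber_presheafFiberDesc _ _ _ _ _

/-- The field of a branch. -/
noncomputable def L : IntermediateField K Ks :=
  IntermediateField.adjoin K (Set.range (β φ).hom)

/-- The projection. -/
noncomputable abbrev π : Spec (CommRingCat.of (L φ)) ⟶ Spec (CommRingCat.of K) :=
  Spec.map (CommRingCat.ofHom (algebraMap K (L φ)))

/-- The geometric point of the field of a branch. -/
noncomputable abbrev ζ : Spec (CommRingCat.of Ks) ⟶ Spec (CommRingCat.of (L φ)) :=
  Spec.map (CommRingCat.ofHom (L φ).val.toRingHom)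

theorem ζ_π : ζ φ ≫ π φ = SepLimit.σ K := by
  rw [← Spec.map_comp]
  rfl

/-- Finitely many elements of the field of a branch are defined on the component of a sufficiently
small neighbourhood. -/
theorem exists_component (E : Type u) [Field E] [Algebra K E] [FiniteDimensional K E]
    [Algebra.IsSeparable K E] (j : E →ₐ[K] Ks) (hj : ∀ x, j x ∈ L φ)
    (e₀ : (Scheme.pointSmallEtale ξ).fiber.Elements) :
    ∃ (e : (Scheme.pointSmallEtale ξ).fiber.Elements) (_ : e ⟶ e₀)
      (ψ : Components.comp ((EtCoh.bc i).obj e.1) (ptOf (bp φ e.2)) ⟶ SepLimit.obj E)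
      (z : (Scheme.pointSmallEtale (SepLimit.σ K)).fiber.obj
        (Components.comp ((EtCoh.bc i).obj e.1) (ptOf (bp φ e.2)))),
        (Scheme.pointSmallEtale (SepLimit.σ K)).fiber.map (Components.incl _ _) z = bp φ e.2 ∧
        (Scheme.pointSmallEtale (SepLimit.σ K)).fiber.map ψ z = SepLimit.pt j := by
  classical
  let P := Scheme.pointSmallEtale ξ
  let bE := Module.finBasis K E
  have hsub : ∃ T : Finset Ks, (↑T : Set Ks) ⊆ Set.range (β φ).hom ∧
      ∀ k, j (bE k) ∈ IntermediateField.adjoin K (↑T : Set Ks) := by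
    choose T hT hmem using fun k => IntermediateField.exists_finset_of_mem_adjoin (hj (bE k))
    refine ⟨Finset.univ.biUnion T, ?_, fun k => ?_⟩
    · intro x hx
      simp only [Finset.coe_biUnion, Set.mem_iUnion] at hx
      obtain ⟨k, -, hk⟩ := hx
      exact hT k hk
    · exact IntermediateField.adjoin.mono K _ _
        (Finset.coe_subset.2 (Finset.subset_biUnion_of_mem T (Finset.mem_univ k))) (hmem k)
  obtain ⟨T, hT, hmem⟩ := hsub
  have hrep : ∀ t ∈ T, ∃ (e : P.fiber.Elements) (_ : e ⟶ e₀) (s : Γ(e.1.left, ⊤)),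
      (Scheme.ΓSpecIso (CommRingCat.of Ks)).hom ((φ.hom.app e.1 e.2).left.appTop s) = t := by
    intro t ht
    obtain ⟨r, rfl⟩ := hT ht
    obtain ⟨U, v, s, rfl⟩ := P.toPresheafFiber_jointly_surjective r
    obtain ⟨⟨W, w⟩, ⟨a, ha⟩, b, -⟩ := IsCofilteredOrEmpty.cone_objs (P.fiber.elementsMk U v) e₀
    obtain ⟨a', ha'⟩ : ∃ a' : W ⟶ U, P.fiber.map a' w = v := ⟨a, ha⟩
    refine ⟨⟨W, w⟩, b, a'.left.appTop s, ?_⟩
    have h := ConcreteCategory.congr_hom (β_germ φ W w) (a'.left.appTop s)
    refine Eq.trans h.symm ?_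
    refine congrArg (β φ).hom ?_
    refine (P.toPresheafFiber_w_apply a' w (EtBase.OO X) s).trans ?_
    rw [ha']
  choose eT fT sT hsT using hrep
  let es : Finset P.fiber.Elements := insert e₀ (T.attach.image fun t => eT t.1 t.2)
  obtain ⟨e, he⟩ := IsCofiltered.inf_objs_exists es
  obtain ⟨g₀⟩ := he (Finset.mem_insert_self e₀ _)
  let W := (EtCoh.bc i).obj e.1
  let w := ptOf (bp φ e.2)
  letI := (Components.isField_single W w).toField
  have hA := Components.isAffineOpen_single W w
  let O := Components.single W w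
  let f : W.left ⟶ Spec (CommRingCat.of K) := W.hom
  obtain ⟨κ, hκ⟩ := Spec.map_surjective (R := CommRingCat.of K) (hA.fromSpec ≫ f)
  obtain ⟨l, hl⟩ : ∃ l : Spec (CommRingCat.of Ks) ⟶ O.toScheme,
      l ≫ O.ι = ((bp φ e.2).left : Spec (CommRingCat.of Ks) ⟶ W.left) :=
    exists_lift_open _ O fun s => by
      rw [Subsingleton.elim (α := Spec (CommRingCat.of Ks)) s default]
      exact (Components.mem_single W).2 rfl
  obtain ⟨h, hh⟩ := Spec.map_surjective (S := CommRingCat.of Ks) (l ≫ hA.isoSpec.hom)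
  have hlspec : Spec.map h ≫ hA.fromSpec = ((bp φ e.2).left : Spec (CommRingCat.of Ks) ⟶ W.left) := by
    rw [hh, ← hl, IsAffineOpen.fromSpec, Category.assoc]
    rw [Iso.hom_inv_id_assoc]
  algebraize [κ.hom]
  have hK : κ ≫ h = CommRingCat.ofHom (algebraMap K Ks) := by
    apply Spec.map_injective
    rw [Spec.map_comp, hκ, ← Category.assoc, hlspec]
    exact CategoryTheory.Over.w (bp φ e.2)
  let ha : Γ(W.left, O) →ₐ[K] Ks := { h.hom with commutes' := fun r => congr(($hK).hom r) }
  have hF : ∀ t ∈ T, t ∈ ha.fieldRange := by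
    intro t ht
    obtain ⟨gt⟩ := he (Finset.mem_insert_of_mem (Finset.mem_image.2 ⟨⟨t, ht⟩, Finset.mem_attach _ _, rfl⟩))
    let g' : e.1.left ⟶ (eT t ht).1.left := gt.1.left
    let m : O.toScheme ⟶ (eT t ht).1.left := O.ι ≫ (pullback.fst e.1.hom i : W.left ⟶ e.1.left) ≫ g'
    have hm : l ≫ m = ((φ.hom.app (eT t ht).1 (eT t ht).2).left : Spec (CommRingCat.of Ks) ⟶ (eT t ht).1.left) := by
      have h2 : φ.hom.app (eT t ht).1 (eT t ht).2 =
          (Scheme.pointSmallEtale (SepLimit.σ K ≫ i)).fiber.map gt.1 (φ.hom.app e.1 e.2) :=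
        (congrArg (φ.hom.app (eT t ht).1) gt.2.symm).trans (NatTrans.naturality_apply φ.hom gt.1 e.2)
      rw [h2]
      show l ≫ O.ι ≫ _ ≫ g' = ((φ.hom.app e.1 e.2).left : Spec (CommRingCat.of Ks) ⟶ e.1.left) ≫ g'
      rw [← Category.assoc l, hl]
      refine (Category.assoc _ _ _).symm.trans ?_
      exact congrArg (· ≫ g') (bp_left_fst φ e.2)
    refine ⟨(Scheme.ΓSpecIso Γ(W.left, O)).hom ((hA.isoSpec.inv ≫ m).appTop (sT t ht)), ?_⟩
    refine Eq.trans ?_ (hsT t ht)
    rw [← hm]
    have h3 : l = Spec.map h ≫ hA.isoSpec.inv := by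
      rw [hh, Category.assoc, Iso.hom_inv_id, Category.comp_id]
    rw [h3]
    change h.hom _ = _
    have h4 := Scheme.ΓSpecIso_naturality h
    rw [Category.assoc, Scheme.Hom.comp_appTop]
    refine (ConcreteCategory.congr_hom h4.symm _).trans ?_
    rfl
  have hrange : ∀ x, j x ∈ ha.fieldRange := by
    intro x
    rw [← bE.sum_repr x, map_sum]
    refine sum_mem fun k _ => ?_
    rw [map_smul]
    exact IntermediateField.smul_mem _ (IntermediateField.adjoin_le_iff.2 hF (hmem k))
  let ρ : E →ₐ[K] Γ(W.left, O) :=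
    (AlgEquiv.ofInjectiveField ha).symm.toAlgHom.comp (j.codRestrict ha.range fun x => hrange x)
  have hρ : ∀ x, ha (ρ x) = j x := fun x =>
    congrArg Subtype.val ((AlgEquiv.ofInjectiveField ha).apply_symm_apply (j.codRestrict ha.range _ x))
  let ψ : Components.comp W w ⟶ SepLimit.obj E :=
    MorphismProperty.Over.homMk (hA.isoSpec.hom ≫ Spec.map (CommRingCat.ofHom ρ.toRingHom)) (by
      change (hA.isoSpec.hom ≫ _) ≫ Spec.map _ = O.ι ≫ f
      rw [Category.assoc, ← Spec.map_comp]
      refine Eq.trans (congrArg (fun k => hA.isoSpec.hom ≫ Spec.map k) (?_ : _ = κ)) ?_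
      · apply CommRingCat.hom_ext
        exact ρ.comp_algebraMap
      · rw [hκ, IsAffineOpen.fromSpec, ← Category.assoc, Iso.hom_inv_id_assoc])
  refine ⟨e, g₀, ψ, CategoryTheory.Over.homMk l (by
    change l ≫ O.ι ≫ f = SepLimit.σ K
    rw [← Category.assoc, hl]
    exact CategoryTheory.Over.w (bp φ e.2)), ?_, ?_⟩
  · apply CategoryTheory.Over.OverMorphism.ext
    exact hl
  · apply CategoryTheory.Over.OverMorphism.ext
    change l ≫ hA.isoSpec.hom ≫ Spec.map _ = Spec.map _
    rw [← Category.assoc, ← hh, ← Spec.map_comp]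
    refine congrArg Spec.map ?_
    apply CommRingCat.hom_ext
    apply RingHom.ext
    exact hρ

section finiteness

variable (i ξ)

/-- Generisations over `i` of the points over `ξ`. -/
noncomputable def lifts : (Scheme.pointSmallEtale ξ).fiber.Elements ⥤ Type u where
  obj e := {v : (Scheme.pointSmallEtale (SepLimit.σ K ≫ i)).fiber.obj e.1 // ptOf v ⤳ ptOf e.2}
  map {e e'} a := TypeCat.ofHom fun v => ⟨(Scheme.pointSmallEtale (SepLimit.σ K ≫ i)).fiber.map a.1 v.1, by
    rw [ptOf_map]
    exact ((v.2.map (a.1.left : e.1.left ⟶ e'.1.left).continuous).trans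
      (specializes_of_eq ((ptOf_map a.1 e.2).symm.trans (congrArg ptOf a.2))))⟩
  map_id e := by
    ext v
    exact Functor.map_id_apply (Scheme.pointSmallEtale (SepLimit.σ K ≫ i)).fiber e.1 v.1
  map_comp a b := by
    ext v
    exact Functor.map_comp_apply (Scheme.pointSmallEtale (SepLimit.σ K ≫ i)).fiber a.1 b.1 v.1

instance finite_lifts (e : (Scheme.pointSmallEtale ξ).fiber.Elements) : Finite ((lifts i ξ).obj e) := by
  let l : Spec (CommRingCat.of (AlgebraicClosure K)) ⟶ Spec (CommRingCat.of Ks) :=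
    Spec.map (CommRingCat.ofHom (algebraMap Ks (AlgebraicClosure K)))
  let F : (lifts i ξ).obj e → (genLifts ξ (l ≫ SepLimit.σ K ≫ i)).obj e := fun v =>
    ⟨(fiberExt (SepLimit.σ K ≫ i) l).app e.1 v.1, by
      refine (specializes_of_eq ?_).trans v.2
      change ((l ≫ (v.1.left : Spec (CommRingCat.of Ks) ⟶ e.1.left)).base _) = _
      exact (Scheme.Hom.comp_apply _ _ _).trans (congrArg _ (Subsingleton.elim _ _))⟩
  exact Finite.of_injective F fun a b h => Subtype.ext
    ((fiberExt_bijective (SepLimit.σ K ≫ i) l e.1).1 (congrArg Subtype.val h))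

/-- A compatible family of lifts gives a branch. -/
theorem exists_branch {e₀ : (Scheme.pointSmallEtale ξ).fiber.Elements}
    (s : (Over.forget e₀ ⋙ lifts i ξ).sections) :
    ∃ φ : Br i ξ, ∀ o : Over e₀, φ.hom.app o.left.1 o.left.2 = (s.1 o).1 := by
  obtain ⟨s', hs'⟩ := (Functor.bijective_sectionsPrecomp (Over.forget e₀) (lifts i ξ)).2 s
  refine ⟨⟨{ app := fun W => TypeCat.ofHom fun w =>
                (s'.1 ((Scheme.pointSmallEtale ξ).fiber.elementsMk W w)).1,
             naturality := fun W W' a => ?_ }⟩, fun o => ?_⟩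
  · ext w
    exact (congrArg Subtype.val (s'.2 (CategoryOfElements.homMk
      ((Scheme.pointSmallEtale ξ).fiber.elementsMk W w)
      ((Scheme.pointSmallEtale ξ).fiber.elementsMk W' ((Scheme.pointSmallEtale ξ).fiber.map a w)) a rfl))).symm
  · subst hs'
    rfl

end finiteness

end Groth.Agent.CdLib.Branch
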