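import Groth.Agent.EtFound.PushOutside
import Groth.Agent.EtFound.Germ
import Groth.Agent.EtFound.PullStalk
import Groth.Agent.EtFound.Stalk
import Groth.Prelude.Def_Dix
import Groth.Prelude.Def_PBC
import Mathlib.CategoryTheory.Abelian.Images

/-! Supports of abelian etale sheaves and `ℓ`-primary torsion sheaves. -/

set_option autoImplicit false
set_option backward.isDefEq.respectTransparency.types false

universe u

open CategoryTheory CategoryTheory.Limits AlgebraicGeometry Opposite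

namespace Groth.Agent.CdLib.Supp

variable {X : Scheme.{u}}

/-- The image point of a geometric point. -/
noncomputable abbrev pt {Ω : Type u} [Field Ω] (ξ : Spec (CommRingCat.of Ω) ⟶ X) : X :=
  ξ.base (default : Spec (CommRingCat.of Ω))

theorem range_eq_pt {Ω : Type u} [Field Ω] (ξ : Spec (CommRingCat.of Ω) ⟶ X) :
    Set.range ξ = {pt ξ} := by
  ext z
  constructor
  · rintro ⟨w, rfl⟩
    rw [Subsingleton.elim w default]
    rfl
  · rintro rfl
    exact ⟨default, rfl⟩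

/-- A point of the support comes with a geometric point with nonzero stalk over it. -/
theorem exists_of_mem_supp {F : EtCoh.Ab X} {x : X} (h : x ∈ EtPBC.supp F) :
    ∃ (Ω : Type u) (_ : Field Ω) (_ : IsSepClosed Ω) (ξ : Spec (CommRingCat.of Ω) ⟶ X),
      pt ξ = x ∧ ¬ IsZero ((EtCoh.stalk ξ).obj F) := by
  obtain ⟨Ω, i₁, i₂, ξ, hξ, hne⟩ := h
  exact ⟨Ω, i₁, i₂, ξ, Set.mem_singleton_iff.1 (hξ ▸ ⟨default, rfl⟩), hne⟩

theorem mem_supp_of_stalk {F : EtCoh.Ab X} {Ω : Type u} [Field Ω] [IsSepClosed Ω]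
    (ξ : Spec (CommRingCat.of Ω) ⟶ X) (h : ¬ IsZero ((EtCoh.stalk ξ).obj F)) :
    pt ξ ∈ EtPBC.supp F :=
  ⟨Ω, inferInstance, inferInstance, ξ, range_eq_pt ξ, h⟩

theorem isZero_stalk_of_notMem {F : EtCoh.Ab X} {Ω : Type u} [Field Ω] [IsSepClosed Ω]
    (ξ : Spec (CommRingCat.of Ω) ⟶ X) (h : pt ξ ∉ EtPBC.supp F) :
    IsZero ((EtCoh.stalk ξ).obj F) :=
  not_not.1 fun hne => h (mem_supp_of_stalk ξ hne)

theorem supp_mono {F G : EtCoh.Ab X} (f : F ⟶ G) [Mono f] : EtPBC.supp F ⊆ EtPBC.supp G := by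
  intro x hx
  obtain ⟨Ω, _, _, ξ, rfl, hne⟩ := exists_of_mem_supp hx
  exact mem_supp_of_stalk ξ fun hz => hne (IsZero.of_mono ((EtCoh.stalk ξ).map f) hz)

theorem supp_epi {F G : EtCoh.Ab X} (f : F ⟶ G) [Epi f] : EtPBC.supp G ⊆ EtPBC.supp F := by
  intro x hx
  obtain ⟨Ω, _, _, ξ, rfl, hne⟩ := exists_of_mem_supp hx
  exact mem_supp_of_stalk ξ fun hz => hne (IsZero.of_epi ((EtCoh.stalk ξ).map f) hz)

theorem isZero_of_supp_eq_empty (F : EtCoh.Ab X) (h : EtPBC.supp F = ∅) : IsZero F :=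
  (EtFound.isZero_iff_stalks F).2 fun Ω _ _ ξ =>
    isZero_stalk_of_notMem ξ (h ▸ Set.notMem_empty _)

theorem supp_pull_subset {Y : Scheme.{u}} (f : X ⟶ Y) (G : EtCoh.Ab Y) :
    EtPBC.supp ((EtCoh.pull f).obj G) ⊆ f.base ⁻¹' EtPBC.supp G := by
  intro x hx
  obtain ⟨Ω, _, _, ξ, rfl, hne⟩ := exists_of_mem_supp hx
  have h := mem_supp_of_stalk (ξ ≫ f) fun hz =>
    hne (hz.of_iso ((EtFound.stalkPullIso f ξ).app G))
  show f.base (pt ξ) ∈ EtPBC.supp G
  exact (Scheme.Hom.comp_apply ξ f (default : Spec (CommRingCat.of Ω))) ▸ h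

theorem supp_push_subset {Y : Scheme.{u}} (f : X ⟶ Y) (G : EtCoh.Ab X) :
    EtPBC.supp ((EtCoh.push f).obj G) ⊆ closure (Set.range f.base) := by
  intro y hy
  obtain ⟨Ω, _, _, ξ, rfl, hne⟩ := exists_of_mem_supp hy
  by_contra h
  obtain ⟨hu⟩ := EtFound.nonempty_unique_stalk (isClosed_closure (s := Set.range f.base))
    ((EtCoh.push f).obj G)
    (fun V hV => EtFound.push_unique_of_disjoint f G V (hV.mono_right subset_closure)) ξ h
  exact hne (@AddCommGrpCat.isZero_of_subsingleton _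
    ⟨fun a b => (hu.eq_default a).trans (hu.eq_default b).symm⟩)

/-! ### `ℓ`-primary torsion sheaves -/

variable (ℓ : ℕ)

theorem isPrimaryTorsion_iff_stalks (F : EtCoh.Ab X) :
    Dix.IsPrimaryTorsion ℓ F ↔
      ∀ (Ω : Type u) [Field Ω] [IsSepClosed Ω] (ξ : Spec (CommRingCat.of Ω) ⟶ X)
        (t : (EtCoh.stalk ξ).obj F), ∃ k : ℕ, (ℓ ^ k) • t = 0 := by
  constructor
  · intro hF Ω _ _ ξ t
    obtain ⟨U, u, s, rfl⟩ := (Scheme.pointSmallEtale ξ).toPresheafFiber_jointly_surjective t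
    obtain ⟨V, g, ⟨v, hv⟩, k, h0⟩ := hF U s _
    obtain ⟨v', rfl, -⟩ := EtFound.exists_lift_point g u v hv
    refine ⟨k, ?_⟩
    erw [← (Scheme.pointSmallEtale ξ).toPresheafFiber_w_apply g v' F.obj s]
    exact (map_nsmul _ _ _).symm.trans ((congrArg _ h0).trans (map_zero _))
  · intro h U s x
    obtain ⟨Ω, _, _, ξ, u, hu⟩ := EtFound.exists_point_through U x
    obtain ⟨k, h0⟩ := h Ω ξ ((Scheme.pointSmallEtale ξ).toPresheafFiber U u F.obj s)
    have h0' : (Scheme.pointSmallEtale ξ).toPresheafFiber U u F.obj (ℓ ^ k • s) =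
        (Scheme.pointSmallEtale ξ).toPresheafFiber U u F.obj 0 := by
      rw [map_zero, map_nsmul]; exact h0
    obtain ⟨V, f, v, hv, hf⟩ := ((Scheme.pointSmallEtale ξ).toPresheafFiber_eq_iff' _ _ _ _).1 h0'
    refine ⟨V, f,
      ⟨(v.left : Spec (CommRingCat.of Ω) ⟶ V.left).base (default : Spec (CommRingCat.of Ω)), ?_⟩, k, ?_⟩
    · subst hv
      exact hu (default : Spec (CommRingCat.of Ω))
    · rw [map_nsmul, map_zero] at hf
      exact hf

theorem isPrimaryTorsion_of_mono {F G : EtCoh.Ab X} (f : F ⟶ G) [Mono f]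
    (hG : Dix.IsPrimaryTorsion ℓ G) : Dix.IsPrimaryTorsion ℓ F := by
  rw [isPrimaryTorsion_iff_stalks] at hG ⊢
  intro Ω _ _ ξ t
  obtain ⟨k, hk⟩ := hG Ω ξ ((EtCoh.stalk ξ).map f t)
  exact ⟨k, (AddCommGrpCat.mono_iff_injective ((EtCoh.stalk ξ).map f)).1 inferInstance
    ((map_nsmul _ _ _).trans (hk.trans (map_zero _).symm))⟩

theorem isPrimaryTorsion_of_epi {F G : EtCoh.Ab X} (f : F ⟶ G) [Epi f]
    (hF : Dix.IsPrimaryTorsion ℓ F) : Dix.IsPrimaryTorsion ℓ G := by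
  rw [isPrimaryTorsion_iff_stalks] at hF ⊢
  intro Ω _ _ ξ t
  obtain ⟨t, rfl⟩ := (AddCommGrpCat.epi_iff_surjective ((EtCoh.stalk ξ).map f)).1 inferInstance t
  obtain ⟨k, hk⟩ := hF Ω ξ t
  exact ⟨k, (map_nsmul _ _ _).symm.trans ((congrArg _ hk).trans (map_zero _))⟩

theorem isPrimaryTorsion_pull {Y : Scheme.{u}} (f : X ⟶ Y) {G : EtCoh.Ab Y}
    (hG : Dix.IsPrimaryTorsion ℓ G) : Dix.IsPrimaryTorsion ℓ ((EtCoh.pull f).obj G) := by
  rw [isPrimaryTorsion_iff_stalks] at hG ⊢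
  intro Ω _ _ ξ t
  let e := ((EtFound.stalkPullIso f ξ).app G).addCommGroupIsoToAddEquiv
  obtain ⟨k, hk⟩ := hG Ω (ξ ≫ f) (e t)
  exact ⟨k, e.injective ((map_nsmul e _ _).trans (hk.trans (map_zero e).symm))⟩

end Groth.Agent.CdLib.Supp
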