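import Groth.Agent.EtFound.AbRecollement
import Groth.Agent.EtFound.Immersion
import Groth.Agent.EtFound.LiftEtaleLoc
import Groth.Agent.CdLib.Supp

/-! Direct images along the inclusion of a point `Spec κ(x) ⟶ X`. -/

set_option autoImplicit false
set_option backward.isDefEq.respectTransparency.types false

universe u

open CategoryTheory CategoryTheory.Limits AlgebraicGeometry Opposite
open scoped TensorProduct

namespace Groth.Agent.CdLib.PointPush

open Groth.Agent.EtFound

/-- étale schemes over a localization descend, Zariski locally -/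
theorem liftable_spec_localization {A T : Type u} [CommRing A] [CommRing T] [Algebra A T]
    (S : Submonoid A) [IsLocalization S T] :
    Liftable (Spec.map (CommRingCat.ofHom (algebraMap A T))) := by
  intro U x
  have : AlgebraicGeometry.Etale U.hom := U.prop
  let q : Spec (CommRingCat.of T) ⟶ Spec (CommRingCat.of A) :=
    Spec.map (CommRingCat.ofHom (algebraMap A T))
  obtain ⟨C0, w, hw, ⟨c, hc⟩, -⟩ := Scheme.exists_affine_mem_range_and_range_subset
    (x := x) (U := (⊤ : U.left.Opens)) (by simp)
  obtain ⟨φ, hφ⟩ := Spec.map_surjective (R := CommRingCat.of T) (w ≫ U.hom)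
  algebraize [φ.hom]
  have : Algebra.Etale T C0 := by
    have h : AlgebraicGeometry.Etale (Spec.map φ) := by
      rw [hφ]
      have : AlgebraicGeometry.Etale w := inferInstance
      infer_instance
    exact RingHom.etale_algebraMap.1 ((HasRingHomProperty.Spec_iff (P := @AlgebraicGeometry.Etale)).mp h)
  obtain ⟨g, hgc, hC⟩ := Algebra.IsEtaleAt.exists_isStandardEtale (R := T) c.asIdeal
  obtain ⟨P, ⟨eC⟩⟩ := exists_standardEtale_lift_loc (A := A) (T := T) (C := Localization.Away g) S
  let B : CommRingCat.{u} := CommRingCat.of P.Ring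
  let b : Spec B ⟶ Spec (CommRingCat.of A) := Spec.map (CommRingCat.ofHom (algebraMap A P.Ring))
  have hb : AlgebraicGeometry.Etale b := by
    rw [HasRingHomProperty.Spec_iff (P := @AlgebraicGeometry.Etale)]
    exact RingHom.etale_algebraMap.2 inferInstance
  let V : (Spec (CommRingCat.of A)).Etale := Scheme.Etale.mk b
  let L : CommRingCat.{u} := CommRingCat.of (Localization.Away g)
  let π : Spec L ⟶ Spec (CommRingCat.of T) := Spec.map (CommRingCat.ofHom (algebraMap T (Localization.Away g)))
  let m : Spec L ⟶ Spec B := Spec.map (CommRingCat.ofHom ((eC.toRingEquiv.toRingHom).comp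
    (Algebra.TensorProduct.includeRight (R := A) (A := T) (B := P.Ring)).toRingHom))
  let ε : Spec L ≅ Spec (CommRingCat.of (T ⊗[A] P.Ring)) :=
    Scheme.Spec.mapIso (eC.toRingEquiv.toCommRingCatIso).op
  have sq2 : IsPullback π m q b := by
    refine (IsPullback.of_hasPullback q b).of_iso ((pullbackSpecIso A T P.Ring) ≪≫ ε.symm)
      (Iso.refl _) (Iso.refl _) (Iso.refl _) ?_ ?_ (by simp) (by simp)
    · have e1 : ε.hom ≫ Spec.map (CommRingCat.ofHom (algebraMap T (T ⊗[A] P.Ring))) = π := by
        change Spec.map _ ≫ Spec.map _ = _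
        rw [← Spec.map_comp]
        refine congrArg Spec.map ?_
        ext r
        exact eC.commutes r
      rw [← e1]
      change _ ≫ 𝟙 _ = ((pullbackSpecIso A T P.Ring).hom ≫ ε.inv) ≫ ε.hom ≫ _
      rw [Category.comp_id, Category.assoc, Iso.inv_hom_id_assoc]
      exact (pullbackSpecIso_hom_fst' _ _ _).symm
    · have e2 : ε.hom ≫ Spec.map (CommRingCat.ofHom
          (Algebra.TensorProduct.includeRight (R := A) (A := T) (B := P.Ring)).toRingHom) = m := by
        change Spec.map _ ≫ Spec.map _ = _
        rw [← Spec.map_comp]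
        rfl
      rw [← e2]
      change _ ≫ 𝟙 _ = ((pullbackSpecIso A T P.Ring).hom ≫ ε.inv) ≫ ε.hom ≫ _
      rw [Category.comp_id, Category.assoc, Iso.inv_hom_id_assoc]
      exact (pullbackSpecIso_hom_snd _ _ _).symm
  let o : Spec L ⟶ U.left := Spec.map (CommRingCat.ofHom (algebraMap C0 (Localization.Away g))) ≫ w
  have hof : o ≫ U.hom = π := by
    simp only [o, π, Category.assoc]
    refine (congrArg (_ ≫ ·) hφ.symm).trans ((Spec.map_comp _ _).symm.trans (congrArg Spec.map ?_))
    ext r
    exact (IsScalarTower.algebraMap_apply T C0 (Localization.Away g) r).symm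
  refine ⟨V, MorphismProperty.Over.homMk (sq2.flip.isoPullback.inv ≫ o)
    ((Category.assoc _ _ _).trans ((congrArg (_ ≫ ·) hof).trans sq2.flip.isoPullback_inv_snd)), ?_⟩
  have hcg : c ∈ Set.range (Spec.map (CommRingCat.ofHom (algebraMap C0 (Localization.Away g)))).base :=
    (PrimeSpectrum.localization_away_comap_range (Localization.Away g) g).ge hgc
  obtain ⟨l, hl⟩ := hcg
  obtain ⟨p', hp'⟩ := sq2.flip.isoPullback.inv.surjective l
  refine ⟨p', (Scheme.Hom.comp_apply _ _ p').trans ((congrArg o.base hp').trans ?_)⟩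
  exact (Scheme.Hom.comp_apply _ _ l).trans ((congrArg w.base hl).trans hc)

variable {X : Scheme.{u}}

theorem liftable_fromSpecStalk (x : X) : Liftable (X.fromSpecStalk x) := by
  obtain ⟨U, hU, hxU, -⟩ := exists_isAffineOpen_mem_and_subset (U := (⊤ : X.Opens))
    (TopologicalSpace.Opens.mem_top x)
  letI := X.presheaf.algebra_section_stalk (U := U) ⟨x, hxU⟩
  haveI := hU.isLocalization_stalk ⟨x, hxU⟩
  rw [← hU.fromSpecStalk_eq_fromSpecStalk hxU]
  exact liftable_comp _ _
    (liftable_spec_localization (A := Γ(X, U)) (T := X.presheaf.stalk x)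
      (hU.primeIdealOf ⟨x, hxU⟩).asIdeal.primeCompl)
    (liftable_of_isOpenImmersion _)

/-- The inclusion of a point. -/
noncomputable abbrev ι (x : X) : Spec (X.residueField x) ⟶ X := X.fromSpecResidueField x

theorem liftable_point (x : X) : Liftable (ι x) := by
  haveI : IsClosedImmersion (Spec.map (X.residue x)) :=
    IsClosedImmersion.spec_of_surjective _ (IsLocalRing.residue_surjective)
  exact liftable_comp _ _ (liftable_of_isClosedImmersion _) (liftable_fromSpecStalk x)

theorem range_ι (x : X) : Set.range (ι x).base = {x} := X.range_fromSpecResidueField x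

/-- At a geometric point over `x` the unit `F ⟶ (i_x)_* (i_x)^* F` is bijective. -/
theorem isIso_stalk_unit (x : X) (F : EtCoh.Ab X) {Ω : Type u} [Field Ω] [IsSepClosed Ω]
    (ξ : Spec (CommRingCat.of Ω) ⟶ X) (hξ : Supp.pt ξ = x) :
    IsIso ((EtCoh.stalk ξ).map ((EtCoh.pullPushAdj (ι x)).unit.app F)) := by
  refine isIso_stalk_of_lift (ι x) _ ξ (by rw [range_ι]; exact hξ) fun k _ _ z => ?_
  refine (NatIso.isIso_map_iff (sheafFiberPullIso (A := AddCommGrpCat.{u + 1}) (ι x) z) _).1 ?_
  have := counit_isIso (A := AddCommGrpCat.{u + 1}) (ι x) (liftable_point x)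
    ((EtCoh.pull (ι x)).obj F)
  have : IsIso ((EtCoh.pull (ι x)).map ((EtCoh.pullPushAdj (ι x)).unit.app F)) :=
    @IsIso.of_isIso_fac_right _ _ _ _ _ _ _ _ this (IsIso.id _)
      ((EtCoh.pullPushAdj (ι x)).left_triangle_components F)
  exact inferInstanceAs (IsIso ((EtCoh.stalk z).map
    ((EtCoh.pull (ι x)).map ((EtCoh.pullPushAdj (ι x)).unit.app F))))

theorem supp_push_point (x : X) (G : EtCoh.Ab (Spec (X.residueField x))) {y : X}
    (hy : y ∈ EtPBC.supp ((EtCoh.push (ι x)).obj G)) : x ⤳ y := by
  have h := Supp.supp_push_subset (ι x) G hy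
  rw [range_ι] at h
  exact specializes_iff_mem_closure.2 h

end Groth.Agent.CdLib.PointPush
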