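import Groth.Agent.CdLib.EtaleStrictHens
import Groth.Agent.CdLib.Branch
import Groth.Agent.CdLib.PointPush
import Groth.Prelude.Def_Cyc
import Mathlib.RingTheory.Ideal.MinimalPrime.Basic
import Mathlib.RingTheory.Localization.FractionRing
import Mathlib.AlgebraicGeometry.Morphisms.QuasiFinite

/-! Branches at `y` of a point `x` give minimal primes of the strictly local ring over the prime of
`x`, and the field of a branch is the fraction field of the quotient. -/

set_option autoImplicit false
set_option backward.isDefEq.respectTransparency.types false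

universe u

open CategoryTheory CategoryTheory.Limits AlgebraicGeometry Opposite

namespace Groth.Agent.CdLib.BranchPrime

noncomputable section

open Groth.Agent.EtLC12.StrictStalk

/-- Etale morphisms have discrete fibres. -/
theorem eq_of_specializes_of_etale {U X : Scheme.{u}} (g : U ⟶ X) [Etale g] {p q : U} (h : q ⤳ p)
    (he : g.base q = g.base p) : q = p := by
  haveI : LocallyQuasiFinite g := by
    rw [HasRingHomProperty.iff_appLE (P := @LocallyQuasiFinite)]
    intro U' V' e'
    have h1 : (g.appLE U' V' e').hom.FormallyUnramified :=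
      HasRingHomProperty.appLE (P := @FormallyUnramified) g inferInstance U' V' e'
    have h2 : (g.appLE U' V' e').hom.FiniteType :=
      HasRingHomProperty.appLE (P := @LocallyOfFiniteType) g inferInstance U' V' e'
    algebraize [(g.appLE U' V' e').hom]
    exact (inferInstance : Algebra.QuasiFinite Γ(X, U') Γ(U, V'))
  haveI : DiscreteTopology (g.base ⁻¹' {g.base p}) :=
    isDiscrete_iff_discreteTopology.1 (g.isDiscrete_preimage_singleton (g.base p))
  have h' : (⟨q, he⟩ : g.base ⁻¹' {g.base p}) ⤳ ⟨p, rfl⟩ := subtype_specializes_iff _ _ |>.2 h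
  exact congrArg Subtype.val h'.eq

variable {X : Scheme.{u}}

section geom

variable {Ω : Type u} [Field Ω] [IsSepClosed Ω] {ξ : Spec (CommRingCat.of Ω) ⟶ X}

/-- Nested primes of the etale local ring over the same point are equal. -/
theorem prime_eq_of_le {P Q : PrimeSpectrum (EtBase.etaleLocalRing ξ)} (h : Q.asIdeal ≤ P.asIdeal)
    (he : (EtaleStrictHens.toX ξ).base Q = (EtaleStrictHens.toX ξ).base P) : Q = P := by
  refine PrimeSpectrum.ext (le_antisymm h fun r hr => ?_)
  obtain ⟨N, b, rfl⟩ := exists_germ_eq r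
  let f : Spec (EtBase.etaleLocalRing ξ) ⟶ Spec N.B := Spec.map N.germ
  have hs : f.base Q ⤳ f.base P := ((PrimeSpectrum.le_iff_specializes Q P).1 h).map f.continuous
  have heq : N.g.base (f.base Q) = N.g.base (f.base P) := by
    rw [← EtaleStrictHens.toX_eq N] at he
    exact (Scheme.Hom.comp_apply f N.g Q).symm.trans (he.trans (Scheme.Hom.comp_apply f N.g P))
  haveI := N.etale
  have h' := eq_of_specializes_of_etale N.g hs heq
  have h'' : b ∈ (f.base P).asIdeal := hr
  rw [← h'] at h''
  exact h''

end geom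

variable {x y : X}

local notation "Ks" => SeparableClosure (X.residueField x)

variable (φ : Branch.Br (PointPush.ι x) (EtaleStrictHens.ξ y))

theorem β_toX : Spec.map (Branch.β φ) ≫ EtaleStrictHens.toX (EtaleStrictHens.ξ y) =
    SepLimit.σ (X.residueField x) ≫ PointPush.ι x := by
  let N := (EtaleStrictHens.nonempty_nbhd (EtaleStrictHens.ξ y)).some
  obtain ⟨ψ, hψ⟩ := Spec.map_surjective (S := CommRingCat.of Ks)
    ((φ.hom.app N.obj N.pt).left : Spec (CommRingCat.of Ks) ⟶ Spec N.B)
  have h : N.germ ≫ Branch.β φ = ψ := by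
    rw [Nbhd.germ, Category.assoc]
    refine (congrArg (_ ≫ ·) (Branch.β_germ φ N.obj N.pt)).trans ?_
    change (Scheme.ΓSpecIso N.B).inv ≫ Scheme.Hom.appTop (_ : Spec (CommRingCat.of Ks) ⟶ Spec N.B) ≫ _ = ψ
    rw [← hψ]
    refine (Scheme.ΓSpecIso_inv_naturality_assoc (S := CommRingCat.of Ks) ψ _).symm.trans ?_
    exact (congrArg (ψ ≫ ·) (Iso.inv_hom_id _)).trans (Category.comp_id _)
  rw [← EtaleStrictHens.toX_eq N, ← Category.assoc, ← Spec.map_comp, h]
  exact (congrArg (· ≫ N.g) hψ).trans (CategoryTheory.Over.w (φ.hom.app N.obj N.pt))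

include φ in
theorem specializes : x ⤳ y := by
  have h := congrArg (fun f : Spec (CommRingCat.of Ks) ⟶ X => f.base default) (β_toX φ)
  rw [← EtaleStrictHens.α_spec y] at h
  simp only [Scheme.Hom.comp_apply] at h
  have hx : (PointPush.ι x).base ((SepLimit.σ (X.residueField x)).base default) = x :=
    Scheme.fromSpecResidueField_apply x _
  have h2 : x ∈ Set.range (X.fromSpecStalk y).base := ⟨_, h.trans hx⟩
  rw [Scheme.range_fromSpecStalk] at h2
  exact h2

theorem α_β (hxy : x ⤳ y) :
    (Branch.β φ).hom.comp (algebraMap (X.presheaf.stalk y) (EtBase.etaleLocalRing (EtaleStrictHens.ξ y))) =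
      (algebraMap (X.residueField x) Ks).comp (Cyc.specMap y x hxy) := by
  have h : EtaleStrictHens.α y ≫ Branch.β φ = X.presheaf.stalkSpecializes hxy ≫ X.residue x ≫
      CommRingCat.ofHom (algebraMap (X.residueField x) Ks) := by
    apply Spec.map_injective
    have hl : Spec.map (EtaleStrictHens.α y ≫ Branch.β φ) ≫ X.fromSpecStalk y =
        SepLimit.σ (X.residueField x) ≫ PointPush.ι x := by
      rw [Spec.map_comp, Category.assoc, EtaleStrictHens.α_spec]
      exact β_toX φ
    have hr : Spec.map (X.presheaf.stalkSpecializes hxy ≫ X.residue x ≫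
          CommRingCat.ofHom (algebraMap (X.residueField x) Ks)) ≫ X.fromSpecStalk y =
        SepLimit.σ (X.residueField x) ≫ PointPush.ι x := by
      rw [Spec.map_comp, Spec.map_comp, Category.assoc, Category.assoc,
        Scheme.SpecMap_stalkSpecializes_fromSpecStalk]
      rfl
    exact (cancel_mono (X.fromSpecStalk y)).1 (hl.trans hr.symm)
  exact congrArg CommRingCat.Hom.hom h

/-- The prime of a branch. -/
def P : Ideal (EtBase.etaleLocalRing (EtaleStrictHens.ξ y)) := RingHom.ker (Branch.β φ).hom

instance isPrime_P : (P φ).IsPrime := RingHom.ker_isPrime _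

theorem comap_P (hxy : x ⤳ y) :
    (P φ).comap (algebraMap (X.presheaf.stalk y) (EtBase.etaleLocalRing (EtaleStrictHens.ξ y))) =
      RingHom.ker (Cyc.specMap y x hxy) := by
  rw [P, RingHom.comap_ker, α_β φ hxy]
  exact RingHom.ker_comp_of_injective _ (RingHom.injective _)

omit φ in
theorem toX_eq_of_comap {P Q : PrimeSpectrum (EtBase.etaleLocalRing (EtaleStrictHens.ξ y))}
    (h : Q.asIdeal.comap (algebraMap (X.presheaf.stalk y) _) = P.asIdeal.comap (algebraMap (X.presheaf.stalk y) _)) :
    (EtaleStrictHens.toX (EtaleStrictHens.ξ y)).base Q = (EtaleStrictHens.toX (EtaleStrictHens.ξ y)).base P := by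
  rw [← EtaleStrictHens.α_spec y, Scheme.Hom.comp_apply, Scheme.Hom.comp_apply]
  exact congrArg (X.fromSpecStalk y).base (PrimeSpectrum.ext h)

theorem mem_minimalPrimes (hxy : x ⤳ y) : P φ ∈ ((RingHom.ker (Cyc.specMap y x hxy)).map
    (algebraMap (X.presheaf.stalk y) (EtBase.etaleLocalRing (EtaleStrictHens.ξ y)))).minimalPrimes := by
  refine ⟨⟨inferInstance, Ideal.map_le_iff_le_comap.2 (comap_P φ hxy).ge⟩, fun Q ⟨hQ, hQle⟩ hle => ?_⟩
  have hc : Q.comap (algebraMap (X.presheaf.stalk y) _) = (P φ).comap (algebraMap (X.presheaf.stalk y) _) :=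
    le_antisymm (Ideal.comap_mono hle) ((comap_P φ hxy).le.trans (Ideal.map_le_iff_le_comap.1 hQle))
  have h : (⟨Q, hQ⟩ : PrimeSpectrum _) = ⟨P φ, inferInstance⟩ :=
    prime_eq_of_le hle (toX_eq_of_comap hc)
  exact (congrArg PrimeSpectrum.asIdeal h).ge

theorem algebraMap_mem_closure (a : X.residueField x) :
    algebraMap (X.residueField x) Ks a ∈ Subfield.closure (Set.range (Branch.β φ).hom) := by
  have hxy := specializes φ
  obtain ⟨V, hV, hyV, -⟩ := exists_isAffineOpen_mem_and_subset (U := (⊤ : X.Opens)) (x := y) trivial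
  have hxV : x ∈ V := hxy.mem_open V.2 hyV
  obtain ⟨a, rfl⟩ := Scheme.residue_surjective X x a
  letI := TopCat.Presheaf.algebra_section_stalk X.presheaf (⟨x, hxV⟩ : V)
  haveI := hV.isLocalization_stalk ⟨x, hxV⟩
  obtain ⟨b, s, rfl⟩ := IsLocalization.exists_mk'_eq (hV.primeIdealOf ⟨x, hxV⟩).asIdeal.primeCompl a
  have hmem : ∀ c : Γ(X, V), algebraMap (X.residueField x) Ks (X.residue x (X.presheaf.germ V x hxV c)) ∈
      Subfield.closure (Set.range (Branch.β φ).hom) := fun c => by
    refine Subfield.subset_closure ⟨algebraMap (X.presheaf.stalk y) _ (X.presheaf.germ V y hyV c), ?_⟩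
    refine (RingHom.congr_fun (α_β φ hxy) _).trans ?_
    refine congrArg (fun t => algebraMap (X.residueField x) Ks (X.residue x t)) ?_
    exact congr(($(X.presheaf.germ_stalkSpecializes hyV hxy)).hom c)
  let f : X.presheaf.stalk x →+* Ks := (algebraMap (X.residueField x) Ks).comp (X.residue x).hom
  change f (IsLocalization.mk' _ b s) ∈ _
  have hs : IsUnit (f (algebraMap Γ(X, V) (X.presheaf.stalk x) s)) :=
    (IsLocalization.map_units _ s).map f
  have h : f (IsLocalization.mk' _ b s) = f (algebraMap Γ(X, V) (X.presheaf.stalk x) b) /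
      f (algebraMap Γ(X, V) (X.presheaf.stalk x) s) := by
    rw [eq_div_iff hs.ne_zero, ← map_mul, IsLocalization.mk'_spec]
  rw [h]
  exact div_mem (hmem b) (hmem s)

theorem L_eq_closure : (Branch.L φ).toSubfield = Subfield.closure (Set.range (Branch.β φ).hom) := by
  rw [Branch.L, IntermediateField.adjoin_toSubfield]
  refine le_antisymm (Subfield.closure_le.2 ?_) (Subfield.closure_mono Set.subset_union_right)
  rintro _ (⟨a, rfl⟩ | h)
  · exact algebraMap_mem_closure φ a
  · exact Subfield.subset_closure h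

/-- The field of a branch is the fraction field of the quotient by its prime. -/
def fracEquiv : FractionRing (EtBase.etaleLocalRing (EtaleStrictHens.ξ y) ⧸ P φ) ≃+* Branch.L φ :=
  let g : EtBase.etaleLocalRing (EtaleStrictHens.ξ y) ⧸ P φ →+* Branch.L φ :=
    Ideal.Quotient.lift (P φ)
      ((Branch.β φ).hom.codRestrict (Branch.L φ) fun r => IntermediateField.subset_adjoin _ _ ⟨r, rfl⟩)
      fun r hr => Subtype.ext hr
  have hg : Function.Injective g := by
    refine (injective_iff_map_eq_zero g).2 fun r hr => ?_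
    obtain ⟨r, rfl⟩ := Ideal.Quotient.mk_surjective r
    exact Ideal.Quotient.eq_zero_iff_mem.2 (congrArg Subtype.val hr)
  RingEquiv.ofBijective (IsFractionRing.lift hg : FractionRing _ →+* Branch.L φ) ⟨RingHom.injective _, by
    rintro ⟨l, hl⟩
    have hl' : l ∈ (Branch.L φ).toSubfield := hl
    rw [L_eq_closure] at hl'
    let j : FractionRing (EtBase.etaleLocalRing (EtaleStrictHens.ξ y) ⧸ P φ) →+* Ks :=
      (Branch.L φ).val.toRingHom.comp (IsFractionRing.lift hg)
    have : Subfield.closure (Set.range (Branch.β φ).hom) ≤ j.fieldRange := by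
      refine Subfield.closure_le.2 ?_
      rintro _ ⟨r, rfl⟩
      exact ⟨algebraMap _ _ (Ideal.Quotient.mk (P φ) r),
        congrArg Subtype.val (IsFractionRing.lift_algebraMap hg (Ideal.Quotient.mk (P φ) r))⟩
    obtain ⟨z, hz⟩ := this hl'
    exact ⟨z, Subtype.ext hz⟩⟩

omit φ in
/-- Over the point itself the field of a branch is separably closed. -/
theorem isSepClosed_L_self (φ : Branch.Br (PointPush.ι y) (EtaleStrictHens.ξ y)) :
    IsSepClosed (Branch.L φ) := by
  let R := EtBase.etaleLocalRing (EtaleStrictHens.ξ y)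
  haveI : IsLocalRing R := isLocalRing
  have hker : RingHom.ker (Cyc.specMap y y (specializes φ)) = IsLocalRing.maximalIdeal (X.presheaf.stalk y) := by
    refine (IsLocalRing.eq_maximalIdeal ?_)
    refine RingHom.ker_isMaximal_of_surjective _ ?_
    change Function.Surjective (X.presheaf.stalkSpecializes (specializes φ) ≫ X.residue y).hom
    rw [TopCat.Presheaf.stalkSpecializes_refl, Category.id_comp]
    exact Scheme.residue_surjective X y
  have hc : (P φ).comap (algebraMap (X.presheaf.stalk y) _) =
      (IsLocalRing.maximalIdeal R).comap (algebraMap (X.presheaf.stalk y) _) := by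
    rw [comap_P φ (specializes φ), hker]
    have h0 : IsLocalHom (algebraMap (X.presheaf.stalk y) R) := EtaleStrictHens.isLocalHom_algebraMap y
    have h1 : (IsLocalRing.maximalIdeal R).comap (algebraMap (X.presheaf.stalk y) R) =
        IsLocalRing.maximalIdeal (X.presheaf.stalk y) :=
      ((IsLocalRing.local_hom_TFAE (algebraMap (X.presheaf.stalk y) R)).out 0 4).1 h0
    exact h1.symm
  have h : (⟨P φ, inferInstance⟩ : PrimeSpectrum R) = ⟨IsLocalRing.maximalIdeal R, inferInstance⟩ :=
    prime_eq_of_le (IsLocalRing.le_maximalIdeal (Ideal.IsPrime.ne_top inferInstance)) (toX_eq_of_comap hc)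
  have h' : P φ = IsLocalRing.maximalIdeal R := congrArg PrimeSpectrum.asIdeal h
  haveI : (P φ).IsMaximal := h' ▸ inferInstance
  letI := Ideal.Quotient.field (P φ)
  haveI : IsSepClosed (IsLocalRing.ResidueField R) := (isStrictlyHenselian (ξ := EtaleStrictHens.ξ y)).2
  let e : IsLocalRing.ResidueField R ≃+* Branch.L φ :=
    (Ideal.quotEquivOfEq h'.symm).trans
      ((IsLocalization.atUnits (EtBase.etaleLocalRing (EtaleStrictHens.ξ y) ⧸ P φ)
        (M := nonZeroDivisors _) (S := FractionRing (EtBase.etaleLocalRing (EtaleStrictHens.ξ y) ⧸ P φ))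
        (fun z hz => isUnit_iff_ne_zero.2 (nonZeroDivisors.ne_zero hz))).toRingEquiv.trans (fracEquiv φ))
  exact Hensel.isSepClosed_of_ringEquiv e

end

end Groth.Agent.CdLib.BranchPrime
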