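import Mathlib.Algebra.Homology.DerivedCategory.Ext.ExactSequences
import Mathlib.Algebra.Homology.DerivedCategory.Ext.Basic
import Mathlib.Logic.Basic

/-! Propagation of the vanishing of `Ext` along short exact sequences. -/

set_option autoImplicit false

universe w v u

open CategoryTheory CategoryTheory.Abelian

namespace Groth.Agent.CdLib.ExtVanish

variable {A : Type u} [Category.{v} A] [Abelian A] [HasExt.{w} A]
  {T : ShortComplex A}

theorem ext_of_iso {G G' : A} (e : G ≅ G') (Z : A) (n : ℕ) (h : Subsingleton (Ext.{w} Z G n)) :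
    Subsingleton (Ext.{w} Z G' n) :=
  subsingleton_of_forall_eq 0 fun x => by
    have h' := congrArg (fun y => Ext.comp y (Ext.mk₀ e.hom) (add_zero n))
      (h.elim (x.comp (Ext.mk₀ e.inv) (add_zero n)) 0)
    simpa using h'

theorem ext₁ (hT : T.ShortExact) (Z : A) (n : ℕ) (h₃ : Subsingleton (Ext.{w} Z T.X₃ n))
    (h₂ : Subsingleton (Ext.{w} Z T.X₂ (n + 1))) : Subsingleton (Ext.{w} Z T.X₁ (n + 1)) :=
  subsingleton_of_forall_eq 0 fun x => by
    obtain ⟨y, rfl⟩ := Ext.covariant_sequence_exact₁ _ hT x (h₂.elim _ _) rfl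
    rw [h₃.elim y 0, Ext.zero_comp]

theorem ext₂ (hT : T.ShortExact) (Z : A) (n : ℕ) (h₁ : Subsingleton (Ext.{w} Z T.X₁ n))
    (h₃ : Subsingleton (Ext.{w} Z T.X₃ n)) : Subsingleton (Ext.{w} Z T.X₂ n) :=
  subsingleton_of_forall_eq 0 fun x => by
    obtain ⟨y, rfl⟩ := Ext.covariant_sequence_exact₂ _ hT x (h₃.elim _ _)
    rw [h₁.elim y 0, Ext.zero_comp]

theorem ext₃ (hT : T.ShortExact) (Z : A) (n : ℕ) (h₂ : Subsingleton (Ext.{w} Z T.X₂ n))
    (h₁ : Subsingleton (Ext.{w} Z T.X₁ (n + 1))) : Subsingleton (Ext.{w} Z T.X₃ n) :=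
  subsingleton_of_forall_eq 0 fun x => by
    obtain ⟨y, rfl⟩ := Ext.covariant_sequence_exact₃ _ hT x rfl (h₁.elim _ _)
    rw [h₂.elim y 0, Ext.zero_comp]

end Groth.Agent.CdLib.ExtVanish
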