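import Groth.Agent.CdLib.LevelMap
import Groth.Agent.CdLib.ExtVanish
import Groth.Agent.CdLib.Leray
import Groth.Agent.EtLC12.QcqsAcyclic
import Groth.Prelude.Def_EtCore
import Mathlib.CategoryTheory.Preadditive.LiftToFinset

/-! Dévissage of cohomological dimension along a dimension function.

Let `φ : X → ℕ` decrease strictly along specializations. If the cohomology of the fibres of a class
of sheaves vanishes above `φ x` and `R^{b+1}(i_x)_*` lowers `φ` by more than `b + 1`, then `H^q(X, F)`
vanishes for `q` above `φ` on the support of `F`. -/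

set_option autoImplicit false
set_option backward.isDefEq.respectTransparency.types false

universe u

open CategoryTheory CategoryTheory.Limits CategoryTheory.Abelian AlgebraicGeometry Opposite

namespace Groth.Agent.CdLib.Devissage

variable {X : Scheme.{u}}

/-- Cohomology of the zero sheaf. -/
theorem subsingleton_H_of_isZero (F : EtCoh.Ab X) (hF : IsZero F) (q : ℕ) : Subsingleton (EtCoh.H X F q) :=
  subsingleton_of_forall_eq 0 fun x => by
    have h : x.comp (Ext.mk₀ (𝟙 F)) (add_zero q) = x := Ext.comp_mk₀_id x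
    rw [← h, hF.eq_of_src (𝟙 F) 0, Ext.mk₀_zero, Ext.comp_zero]

section coprod

variable {J : Type (u + 1)} (M : J → EtCoh.Ab X)

/-- Cohomology of a finite coproduct. -/
theorem subsingleton_H_sigma [Finite J] (q : ℕ) (h : ∀ j, Subsingleton (EtCoh.H X (M j) q)) :
    Subsingleton (EtCoh.H X (∐ M) q) := by
  classical
  haveI := Fintype.ofFinite J
  have hid : ∑ j, CoprodProd.proj M j ≫ Sigma.ι M j = 𝟙 (∐ M) := by
    refine Sigma.hom_ext _ _ fun k => ?_
    rw [Preadditive.comp_sum, Finset.sum_eq_single k]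
    · rw [← Category.assoc, CoprodProd.ι_proj_self, Category.id_comp, Category.comp_id]
    · intro j _ hj
      rw [← Category.assoc, CoprodProd.ι_proj_ne M (Ne.symm hj), zero_comp]
    · exact fun h => absurd (Finset.mem_univ k) h
  refine subsingleton_of_forall_eq 0 fun x => ?_
  rw [← Ext.comp_mk₀_id x, ← hid, Ext.mk₀_sum, Ext.comp_sum]
  refine Finset.sum_eq_zero fun j _ => ?_
  rw [← Ext.mk₀_comp_mk₀, ← Ext.comp_assoc_of_second_deg_zero,
    (h j).elim (x.comp (Ext.mk₀ (CoprodProd.proj M j)) (add_zero q)) 0, Ext.zero_comp]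

open CoproductsFromFiniteFiltered in
/-- Cohomology of coproducts. -/
theorem subsingleton_H_coprod [CompactSpace X] [QuasiSeparatedSpace X] (q : ℕ)
    (h : ∀ j, Subsingleton (EtCoh.H X (M j) q)) : Subsingleton (EtCoh.H X (∐ M) q) := by
  classical
  haveI := EtLC12.QcqsAcyclic.preservesColimitsOfShape_HF X q (Finset (Discrete J))
  let hc := isColimitOfPreserves (EtCoh.HF X q) (isColimitFiniteSubproductsCocone M)
  have hz : IsZero ((EtCoh.HF X q).obj (finiteSubcoproductsCocone M).pt) := by
    refine (IsZero.iff_id_eq_zero _).2 (hc.hom_ext fun S => ?_)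
    have hS : IsZero ((EtCoh.HF X q).obj ((liftToFinsetObj (Discrete.functor M)).obj S)) :=
      @AddCommGrpCat.isZero_of_subsingleton _
        (subsingleton_H_sigma (fun j : ↥S => M j.1.as) q fun j => h j.1.as)
    exact hS.eq_of_src _ _
  exact AddCommGrpCat.subsingleton_of_isZero hz

end coprod

instance pull_preservesFiniteLimits {Y : Scheme.{u}} (f : X ⟶ Y) : PreservesFiniteLimits (EtCoh.pull f) :=
  EtFound.pull_preservesFiniteLimits f

/-- `H^q(X, f_* G) = 0` from the vanishing of the Leray terms. -/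
theorem subsingleton_H_push {Y : Scheme.{u}} (f : Y ⟶ X) (G : EtCoh.Ab Y) (q : ℕ)
    (h : Subsingleton (EtCoh.H Y G q))
    (hab : ∀ a b : ℕ, a + b + 2 = q → Subsingleton (EtCoh.H X ((EtCoh.Rpush f (b + 1)).obj G) a)) :
    Subsingleton (EtCoh.H X ((EtCoh.push f).obj G) q) := by
  refine Leray.subsingleton_ext_right (EtCoh.pullPushAdj f) _ q G ?_ hab
  refine subsingleton_of_forall_eq 0 fun x => ?_
  have h' : (Ext.mk₀ (EtCore.pullConst f ℤ).inv).comp x (zero_add q) = 0 := h.elim _ _
  have h'' := congrArg (fun y => (Ext.mk₀ (EtCore.pullConst f ℤ).hom).comp y (zero_add q)) h'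
  simp only [Ext.mk₀_comp_mk₀_assoc, Iso.hom_inv_id, Ext.mk₀_id_comp, Ext.comp_zero] at h''
  exact h''

variable (φ : X → ℕ) (P : EtCoh.Ab X → Prop)

/-- The hypotheses of the dévissage. -/
structure Hyp : Prop where
  decr : ∀ x y : X, x ⤳ y → x ≠ y → φ y < φ x
  ker : ∀ {F G : EtCoh.Ab X} (f : F ⟶ G), P F → P G → P (kernel f)
  coker : ∀ {F G : EtCoh.Ab X} (f : F ⟶ G), P F → P G → P (cokernel f)
  sigma : ∀ (n : ℕ) (F : EtCoh.Ab X), P F → P (∐ LevelMap.M φ n F)
  point : ∀ (x : X) (F : EtCoh.Ab X), P F → ∀ q, φ x < q →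
    Subsingleton (EtCoh.H (Spec (X.residueField x)) ((EtCoh.pull (PointPush.ι x)).obj F) q)
  higher : ∀ (x : X) (F : EtCoh.Ab X), P F → ∀ b : ℕ,
    P ((EtCoh.Rpush (PointPush.ι x) (b + 1)).obj ((EtCoh.pull (PointPush.ι x)).obj F)) ∧
      ∀ y ∈ EtPBC.supp ((EtCoh.Rpush (PointPush.ι x) (b + 1)).obj ((EtCoh.pull (PointPush.ι x)).obj F)),
        φ y + (b + 1) < φ x

variable {φ P} (hP : Hyp φ P) [IsNoetherian X]

include hP in
theorem main : ∀ (n : ℕ) (F : EtCoh.Ab X), P F → (∀ x ∈ EtPBC.supp F, φ x < n) →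
    ∀ q, n ≤ q → Subsingleton (EtCoh.H X F q) := by
  intro n
  induction n using Nat.strong_induction_on with
  | _ n ih =>
    intro F hF hsupp q hq
    cases n with
    | zero =>
      exact subsingleton_H_of_isZero F (Supp.isZero_of_supp_eq_empty F
        (Set.eq_empty_iff_forall_notMem.2 fun x hx => absurd (hsupp x hx) (Nat.not_lt_zero _))) q
    | succ n =>
      obtain ⟨q, rfl⟩ := Nat.exists_eq_add_of_le hq
      have hle : ∀ x ∈ EtPBC.supp F, φ x ≤ n := fun x hx => Nat.lt_succ_iff.1 (hsupp x hx)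
      let θ := LevelMap.map φ n F hP.decr hle
      have hT : P (∐ LevelMap.M φ n F) := hP.sigma n F hF
      have hTvan : Subsingleton (EtCoh.H X (∐ LevelMap.M φ n F) (n + 1 + q)) :=
        subsingleton_H_coprod _ _ fun k => by
          refine subsingleton_H_push _ _ _ (hP.point k.down.1 F hF _ (by rw [k.down.2]; omega)) ?_
          intro a b hab
          obtain ⟨hR, hs⟩ := hP.higher k.down.1 F hF b
          refine ih (n - (b + 1)) (by omega) _ hR (fun y hy => ?_) a (by omega)
          have := hs y hy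
          rw [k.down.2] at this
          omega
      have hK : Subsingleton (EtCoh.H X (kernel θ) (n + 1 + q)) :=
        ih n (by omega) _ (hP.ker θ hF hT) (LevelMap.supp_kernel φ n F hP.decr hle) _ (by omega)
      have hC : Subsingleton (EtCoh.H X (cokernel θ) (n + q)) :=
        ih n (by omega) _ (hP.coker θ hF hT) (LevelMap.supp_cokernel φ n F hP.decr hle) _ (by omega)
      let S₁ := ShortComplex.mk (kernel.ι θ) (Abelian.factorThruImage θ)
        (by rw [← cancel_mono (Abelian.image.ι θ), Category.assoc, Abelian.image.fac, kernel.condition,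
          zero_comp])
      let S₂ := ShortComplex.mk (Abelian.image.ι θ) (cokernel.π θ) (kernel.condition _)
      have hS₁ : S₁.ShortExact :=
        { exact := ShortComplex.exact_of_f_is_kernel _ (KernelFork.IsLimit.ofι' _ _ fun {W} g hg =>
            ⟨kernel.lift θ g (by rw [← Abelian.image.fac θ, ← Category.assoc]
                                 exact (congrArg (· ≫ Abelian.image.ι θ) hg).trans zero_comp),
              kernel.lift_ι _ _ _⟩) }
      have hS₂ : S₂.ShortExact :=
        { exact := ShortComplex.exact_of_f_is_kernel _ (kernelIsKernel (cokernel.π θ)) }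
      have e : n + 1 + q = (n + q) + 1 := by omega
      rw [e] at hTvan hK ⊢
      exact ExtVanish.ext₂ hS₁ _ _ hK (ExtVanish.ext₁ hS₂ _ _ hC hTvan)

include hP in
/-- The dévissage theorem. -/
theorem subsingleton_H (F : EtCoh.Ab X) (hF : P F) (q : ℕ) (hq : ∀ x ∈ EtPBC.supp F, φ x < q) :
    Subsingleton (EtCoh.H X F q) :=
  main hP q F hF hq q le_rfl

end Groth.Agent.CdLib.Devissage
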