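import Groth.Agent.CdLib.StalkVanish
import Groth.Agent.CdLib.Devissage
import Groth.Agent.S0642
import Groth.Prelude.Def_Dix

/-! Closure properties of the class of `ℓ`-primary torsion sheaves. -/

set_option autoImplicit false
set_option backward.isDefEq.respectTransparency.types false

universe u

open CategoryTheory CategoryTheory.Limits CategoryTheory.Abelian AlgebraicGeometry Opposite

namespace Groth.Agent.CdLib.TorsionClass

open Groth.Agent.EtFound

variable {X Y : Scheme.{u}} (ℓ : ℕ)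

theorem pow_smul_eq_zero_of_le {M : Type*} [AddMonoid M] {a : M} {k m : ℕ} (h : ℓ ^ k • a = 0) (hkm : k ≤ m) :
    ℓ ^ m • a = 0 := by
  obtain ⟨d, rfl⟩ := Nat.exists_eq_add_of_le hkm
  rw [pow_add, mul_comm, mul_smul, h, smul_zero]

/-- Sections over quasi-compact objects are killed by one power. -/
theorem exists_pow_smul_eq_zero {F : EtCoh.Ab X} (hF : Dix.IsPrimaryTorsion ℓ F) (U : X.Etale)
    [CompactSpace U.left] (s : F.obj.obj (op U)) : ∃ k : ℕ, ℓ ^ k • s = 0 := by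
  choose V g v hv k hk using fun x => (show ∃ (V : X.Etale) (g : V ⟶ U) (v : V.left),
    g.left.base v = x ∧ ∃ k : ℕ, (ℓ ^ k) • (F.obj.map g.op s) = 0 by
    obtain ⟨V, g, ⟨v, hv⟩, h⟩ := hF U s x
    exact ⟨V, g, v, hv, h⟩)
  have ho : ∀ x, IsOpen (Set.range (g x).left.base) := fun x => by
    haveI := etale_left (g x)
    exact (g x).left.isOpenMap.isOpen_range
  obtain ⟨T, hT⟩ := (isCompact_univ (X := U.left)).elim_finite_subcover (fun x => Set.range (g x).left.base) ho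
    fun x _ => Set.mem_iUnion.2 ⟨x, v x, hv x⟩
  refine ⟨T.sup k, ?_⟩
  refine eq_of_cover F (U := U) _ 0 (equalizerSieve_mem_of_germs F.obj U _ _ fun Ω _ _ ξ t => ?_)
  obtain ⟨x, hxT, w, hw⟩ : ∃ x ∈ T, ∃ w, (g x).left.base w =
      (t.left : Spec (CommRingCat.of Ω) ⟶ U.left).base (default : Spec (CommRingCat.of Ω)) := by
    have h := hT (Set.mem_univ ((t.left : Spec (CommRingCat.of Ω) ⟶ U.left).base
      (default : Spec (CommRingCat.of Ω))))
    simp only [Set.mem_iUnion] at h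
    obtain ⟨x, hxT, w, hw⟩ := h
    exact ⟨x, hxT, w, hw⟩
  obtain ⟨t', rfl, -⟩ := exists_lift_point (g x) t w hw
  rw [map_zero, map_nsmul]
  refine pow_smul_eq_zero_of_le ℓ ?_ (Finset.le_sup hxT)
  refine Eq.trans ?_ ((congrArg ((Scheme.pointSmallEtale ξ).toPresheafFiber (V x) t' F.obj) (hk x)).trans
    (map_zero _))
  rw [map_nsmul]
  exact congrArg (ℓ ^ k x • ·) ((Scheme.pointSmallEtale ξ).toPresheafFiber_w_apply (g x) t' F.obj s).symm

/-- Direct images along quasi-compact morphisms. -/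
theorem isPrimaryTorsion_push (f : Y ⟶ X) [QuasiCompact f] [QuasiSeparatedSpace X] {G : EtCoh.Ab Y}
    (hG : Dix.IsPrimaryTorsion ℓ G) : Dix.IsPrimaryTorsion ℓ ((EtCoh.push f).obj G) := by
  rw [Supp.isPrimaryTorsion_iff_stalks]
  intro Ω _ _ ξ t
  obtain ⟨V, hV, v, q, rfl⟩ := LevelMap.exists_affine_rep ((EtCoh.push f).obj G) ξ t
  let h : V.left ⟶ X := V.hom
  haveI : IsAffine V.left := hV
  haveI : QuasiCompact h := quasiCompact_of_compactSpace h
  haveI : CompactSpace ((EtCoh.bc f).obj V).left :=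
    @QuasiCompact.compactSpace_of_compactSpace _ _ (pullback.fst h f)
      (MorphismProperty.pullback_fst (P := @QuasiCompact) h f ‹_›) inferInstance
  obtain ⟨k, hk⟩ := exists_pow_smul_eq_zero ℓ hG ((EtCoh.bc f).obj V) q
  exact ⟨k, (map_nsmul _ _ _).symm.trans ((congrArg _ hk).trans (map_zero _))⟩

/-- Coproducts. -/
theorem isPrimaryTorsion_coprod {J : Type (u + 1)} (M : J → EtCoh.Ab X)
    (h : ∀ j, Dix.IsPrimaryTorsion ℓ (M j)) : Dix.IsPrimaryTorsion ℓ (∐ M) := by
  classical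
  rw [Supp.isPrimaryTorsion_iff_stalks]
  intro Ω _ _ ξ t
  obtain ⟨S, -, hS⟩ := CoprodProd.eq_sum_of_isColimit _ (CoprodProd.stalkCofanIsColimit M ξ)
    (fun k => (EtCoh.stalk ξ).map (CoprodProd.proj M k)) (CoprodProd.stalk_proj_self M ξ)
    (fun j k hjk => CoprodProd.stalk_proj_ne M ξ hjk) t
  choose k hk using fun j => (Supp.isPrimaryTorsion_iff_stalks ℓ (M j)).1 (h j) Ω ξ
    ((EtCoh.stalk ξ).map (CoprodProd.proj M j) t)
  refine ⟨S.sup k, ?_⟩
  rw [hS, Finset.smul_sum]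
  refine Finset.sum_eq_zero fun j hj => ?_
  rw [← map_nsmul, pow_smul_eq_zero_of_le ℓ (hk j) (Finset.le_sup hj), map_zero]

section field

variable {K : Type u} [Field K]

/-- The terms of the coinduced resolution. -/
theorem isPrimaryTorsion_coindSES {G : EtCoh.Ab (Spec (CommRingCat.of K))} (hG : Dix.IsPrimaryTorsion ℓ G) :
    Dix.IsPrimaryTorsion ℓ (StalkVanish.coindSES G).X₂ ∧ Dix.IsPrimaryTorsion ℓ (StalkVanish.coindSES G).X₃ := by
  haveI : QuasiCompact (SepLimit.σ K) := quasiCompact_of_compactSpace _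
  have h₂ : Dix.IsPrimaryTorsion ℓ (StalkVanish.coindSES G).X₂ :=
    isPrimaryTorsion_push ℓ (SepLimit.σ K) (Supp.isPrimaryTorsion_pull ℓ (SepLimit.σ K) hG)
  haveI := (StalkVanish.coindSES_shortExact G).epi_g
  exact ⟨h₂, Supp.isPrimaryTorsion_of_epi ℓ (StalkVanish.coindSES G).g h₂⟩

/-- Higher direct images from the spectrum of a field. -/
theorem isPrimaryTorsion_Rpush [QuasiSeparatedSpace X] (i : Spec (CommRingCat.of K) ⟶ X) [QuasiCompact i] :
    ∀ (b : ℕ) (G : EtCoh.Ab (Spec (CommRingCat.of K))), Dix.IsPrimaryTorsion ℓ G →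
      Dix.IsPrimaryTorsion ℓ ((EtCoh.Rpush i (b + 1)).obj G) := by
  let R := EtCoh.push i
  haveI : R.IsRightAdjoint := (EtCoh.pullPushAdj i).isRightAdjoint
  haveI : PreservesFiniteLimits R := inferInstance
  letI := HasDerivedCategory.standard (EtCoh.Ab (Spec (CommRingCat.of K)))
  letI := HasDerivedCategory.standard (EtCoh.Ab X)
  intro b
  induction b with
  | zero =>
    intro G hG
    let S := StalkVanish.coindSES G
    obtain ⟨δ, w₁, w₂, w₃, e₁, e₂, e₃⟩ :=
      TriCat.exists_rightDerived_ses R (StalkVanish.coindSES_shortExact G) 0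
    have hz : IsZero ((R.rightDerived 1).obj S.X₂) :=
      SepAcyclic.isZero_Rpush_coind i 0 ((EtCoh.pull (SepLimit.σ K)).obj G)
    have hδ : Epi δ := e₃.epi_f (hz.eq_of_tgt _ _)
    let d : R.obj S.X₃ ⟶ (R.rightDerived 1).obj S.X₁ := R.rightDerivedZeroIsoSelf.inv.app S.X₃ ≫ δ
    haveI : Epi d := @epi_comp _ _ _ _ _ _ inferInstance δ hδ
    exact @Supp.isPrimaryTorsion_of_epi _ ℓ _ _ d (@epi_comp _ _ _ _ _ _ inferInstance δ hδ)
      (isPrimaryTorsion_push ℓ i (isPrimaryTorsion_coindSES ℓ hG).2)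
  | succ b ih =>
    intro G hG
    let S := StalkVanish.coindSES G
    obtain ⟨δ, w₁, w₂, w₃, e₁, e₂, e₃⟩ :=
      TriCat.exists_rightDerived_ses R (StalkVanish.coindSES_shortExact G) (b + 1)
    have hz : IsZero ((R.rightDerived (b + 1 + 1)).obj S.X₂) :=
      SepAcyclic.isZero_Rpush_coind i (b + 1) ((EtCoh.pull (SepLimit.σ K)).obj G)
    have hδ : Epi δ := e₃.epi_f (hz.eq_of_tgt _ _)
    exact @Supp.isPrimaryTorsion_of_epi _ ℓ _ _ δ hδ (ih S.X₃ (isPrimaryTorsion_coindSES ℓ hG).2)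

end field

/-- Vanishing of cohomology moves along isomorphisms of schemes. -/
theorem subsingleton_H_pull_of_iso {Z : Scheme.{u}} (e : Y ≅ Z) (π : Y ⟶ X) (F : EtCoh.Ab X) (q : ℕ)
    (h : Subsingleton (EtCoh.H Z ((EtCoh.pull (e.inv ≫ π)).obj F) q)) :
    Subsingleton (EtCoh.H Y ((EtCoh.pull π).obj F) q) := by
  haveI : IsIntegralHom e.hom := inferInstance
  haveI : Surjective e.hom := inferInstance
  haveI : UniversallyInjective e.hom := inferInstance
  haveI := EtFound.pull_preservesFiniteLimits e.hom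
  let η := (pullCompAb e.hom (e.inv ≫ π)).symm.app F ≪≫
    eqToIso (congrArg (fun p => (EtCoh.pull p).obj F) (e.hom_inv_id_assoc π))
  have hH : Subsingleton (EtCoh.H Y ((EtCoh.pull e.hom).obj ((EtCoh.pull (e.inv ≫ π)).obj F)) q) :=
    haveI := h
    (S0642.result e.hom ((EtCoh.pull (e.inv ≫ π)).obj F) q).2.subsingleton
  haveI : Subsingleton ((EtCoh.HF Y q).obj ((EtCoh.pull (e.inv ≫ π) ⋙ EtCoh.pull e.hom).obj F)) := hH
  exact (((EtCoh.HF Y q).mapIso η).addCommGroupIsoToAddEquiv).symm.injective.subsingleton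

end Groth.Agent.CdLib.TorsionClass
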