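import Groth.Agent.S3054
import Groth.Agent.S0655
import Groth.Agent.CdLib.Components
import Groth.Agent.CdLib.SepLimit
import Groth.Agent.CdLib.Devissage
import Groth.Agent.CdLib.Branch
import Groth.Agent.EtFound.Henselian
import Groth.Agent.EtFound.SepClosedField
import Groth.Agent.TriCat.AcyclicObj

/-! Sheaves coinduced from a separable closure: acyclicity over separable algebraic extensions and
for direct images. -/

set_option autoImplicit false
set_option backward.isDefEq.respectTransparency.types false

universe u

open CategoryTheory CategoryTheory.Limits CategoryTheory.Abelian AlgebraicGeometry Opposite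
open scoped TensorProduct

namespace Groth.Agent.CdLib.SepAcyclic

open Groth.Agent.EtFound

theorem henselian_field (k : Type u) [Field k] : HenselianLocalRing k :=
  Hensel.henselianLocalRing_of_ringKrullDim_eq_zero k (ringKrullDim_eq_zero_of_field k)

section sepclosed

variable {k : Type u} [Field k] [IsSepClosed k]

theorem isSepClosed_residueField : IsSepClosed (IsLocalRing.ResidueField k) :=
  Hensel.isSepClosed_of_ringEquiv (RingEquiv.ofBijective (IsLocalRing.residue k)
    ⟨(IsLocalRing.residue k).injective, IsLocalRing.residue_surjective⟩)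

/-- Epimorphisms are surjective on quasi-compact étale schemes over a separably closed field. -/
theorem sect_surjective_of_epi {A B : EtCoh.Ab (Spec (CommRingCat.of k))} (g : A ⟶ B) [Epi g]
    (U : (Spec (CommRingCat.of k)).Etale) :
    Function.Surjective (g.hom.app (op U)) := by
  haveI := henselian_field k
  haveI := isSepClosed_residueField (k := k)
  intro q
  have hone : ∀ x : U.left, ∃ a : A.obj.obj (op (Components.comp U x)),
      g.hom.app (op (Components.comp U x)) a = B.obj.map (Components.incl U x).op q := fun x => by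
    let C := Components.comp U x
    haveI : Subsingleton C.left := ⟨fun a b => Subtype.ext
      (((Components.mem_single U).1 a.2).trans ((Components.mem_single U).1 b.2).symm)⟩
    let cf : C.left ⟶ Spec (CommRingCat.of k) := C.hom
    haveI : AlgebraicGeometry.Etale cf := C.prop
    obtain ⟨l, hl, -⟩ := Scheme.exists_fac_of_etale_of_isSepClosed cf (𝟙 (Spec (CommRingCat.of k)))
      ⟨x, (Components.mem_single U).2 rfl⟩ (Subsingleton.elim _ _)
    let z : (Scheme.pointSmallEtale (𝟙 (Spec (CommRingCat.of k)))).fiber.obj C := CategoryTheory.Over.homMk l hl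
    obtain ⟨s, hs⟩ := exists_hom_idTop z
    let q' := B.obj.map (Components.incl U x).op q
    obtain ⟨a, ha⟩ := sect_top_surjective_of_epi k g (B.obj.map s.op q')
    let t : C ⟶ EtCoh.top (Spec (CommRingCat.of k)) := (EtCore.topIsTerminal _).from C
    refine ⟨A.obj.map t.op a, SepLimit.germ_injective B C z ?_⟩
    rw [NatTrans.naturality_apply g.hom t.op a, ha]
    let P := Scheme.pointSmallEtale (𝟙 (Spec (CommRingCat.of k)))
    rw [P.toPresheafFiber_w_apply, P.toPresheafFiber_w_apply]
    refine congrArg (fun w => P.toPresheafFiber C w B.obj q') ?_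
    rw [← hs, ← Functor.map_comp_apply, ← Functor.map_comp_apply, ← Category.assoc, hom_top_eq_id (s ≫ t),
      Category.id_comp]
  choose a ha using hone
  obtain ⟨r, hr⟩ := (Components.bijective_sections U A).2 a
  refine ⟨r, (Components.bijective_sections U B).1 (funext fun x => ?_)⟩
  change B.obj.map (Components.incl U x).op (g.hom.app (op U) r) = _
  rw [← NatTrans.naturality_apply g.hom, show A.obj.map (Components.incl U x).op r = a x from congrFun hr x, ha]

/-- No higher cohomology on schemes integral over a separably closed field. -/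
theorem subsingleton_H_integral {Z : Scheme.{u}} (h : Z ⟶ Spec (CommRingCat.of k)) [IsIntegralHom h] :
    ∀ (q : ℕ) (G : EtCoh.Ab Z), Subsingleton (EtCoh.H Z G (q + 1)) := by
  intro q
  induction q with
  | zero =>
    intro G
    refine subsingleton_of_forall_eq 0 fun x => ?_
    let Q := Classical.arbitrary (InjectivePresentation G)
    have hS := Q.shortExact_shortComplex
    let S := Q.shortComplex
    haveI : Injective S.X₂ := Q.injective
    haveI : Epi S.g := hS.epi_g
    haveI := push_preservesEpimorphisms h
    obtain ⟨y, rfl⟩ := Ext.covariant_sequence_exact₁ _ hS x (Ext.eq_zero_of_injective _) (rfl : 0 + 1 = 1)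
    let hT := EtCore.topIsTerminal Z
    let tW : (EtCoh.bc h).obj (EtCoh.top _) ⟶ EtCoh.top Z := hT.from _
    let tI : EtCoh.top Z ⟶ (EtCoh.bc h).obj (EtCoh.top _) :=
      (IsTerminal.isTerminalObj (EtCoh.bc h) _ (EtCore.topIsTerminal _)).from _
    let qy := Sheaf.H.equiv₀ S.X₃ hT y
    obtain ⟨a, ha⟩ := sect_surjective_of_epi ((EtCoh.push h).map S.g) (EtCoh.top _)
      (S.X₃.obj.map tW.op qy)
    have hy : y = ((Sheaf.H.equiv₀ S.X₂ hT).symm (S.X₂.obj.map tI.op a)).comp (Ext.mk₀ S.g) (add_zero 0) := by
      refine (Sheaf.H.equiv₀ S.X₃ hT).injective ?_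
      refine Eq.trans ?_ (Sheaf.H.equiv₀_naturality hT S.g ((Sheaf.H.equiv₀ S.X₂ hT).symm (S.X₂.obj.map tI.op a)))
      rw [AddEquiv.apply_symm_apply, NatTrans.naturality_apply S.g.hom]
      refine Eq.trans ?_ (congrArg (S.X₃.obj.map tI.op) ha).symm
      rw [← ConcreteCategory.comp_apply, ← Functor.map_comp, ← op_comp, hT.hom_ext (tI ≫ tW) (𝟙 _), op_id,
        CategoryTheory.Functor.map_id]
      rfl
    rw [hy, Ext.comp_assoc_of_second_deg_zero, hS.comp_extClass, Ext.comp_zero]
  | succ q ih =>
    intro G
    let Q := Classical.arbitrary (InjectivePresentation G)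
    have hS := Q.shortExact_shortComplex
    haveI : Injective Q.shortComplex.X₂ := Q.injective
    exact ExtVanish.ext₁ hS _ (q + 1) (ih _) (Ext.subsingleton_of_injective _ _ _)

end sepclosed

variable {K : Type u} [Field K]

/-- Coinduced sheaves are acyclic over separable algebraic extensions. -/
theorem subsingleton_H_pull_coind (L : Type u) [Field L] [Algebra K L] [Algebra.IsAlgebraic K L]
    (π : Spec (CommRingCat.of L) ⟶ Spec (CommRingCat.of K))
    (hπ : π = Spec.map (CommRingCat.ofHom (algebraMap K L)))
    (M : EtCoh.Ab (Spec (CommRingCat.of (SeparableClosure K)))) (q : ℕ) :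
    Subsingleton (EtCoh.H (Spec (CommRingCat.of L))
      ((EtCoh.pull π).obj ((EtCoh.push (SepLimit.σ K)).obj M)) (q + 1)) := by
  let s := SepLimit.σ K
  haveI hint : IsIntegralHom s := by
    rw [IsIntegralHom.SpecMap_iff]
    exact Algebra.IsIntegral.isIntegral
  haveI : IsIntegralHom π := by
    subst hπ
    rw [IsIntegralHom.SpecMap_iff]
    exact Algebra.IsIntegral.isIntegral
  let Z := pullback s π
  have hpb : IsPullback (pullback.fst s π) (pullback.snd s π) s π := IsPullback.of_hasPullback s π
  haveI : IsIntegralHom (pullback.fst s π) := MorphismProperty.pullback_fst s π ‹_›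
  haveI : IsIntegralHom (pullback.snd s π) := MorphismProperty.pullback_snd s π hint
  haveI := S0655.result s π (pullback.snd s π) (pullback.fst s π) hpb M
  refine ExtVanish.ext_of_iso (asIso (EtCoh.baseChange0 s π (pullback.snd s π) (pullback.fst s π) hpb.w M)).symm
    _ _ ?_
  refine Devissage.subsingleton_H_push _ _ _ (subsingleton_H_integral (pullback.fst s π) q _) fun a b _ => ?_
  exact Devissage.subsingleton_H_of_isZero _ (S3054.result (pullback.snd s π) _ (b + 1) b.succ_pos) a

/-- Higher direct images of coinduced sheaves vanish. -/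
theorem isZero_Rpush_coind {X : Scheme.{u}} (i : Spec (CommRingCat.of K) ⟶ X) :
    ∀ (b : ℕ) (M : EtCoh.Ab (Spec (CommRingCat.of (SeparableClosure K)))),
      IsZero ((EtCoh.Rpush i (b + 1)).obj ((EtCoh.push (SepLimit.σ K)).obj M)) := by
  let s := SepLimit.σ K
  haveI : IsIntegralHom s := by
    rw [IsIntegralHom.SpecMap_iff]
    exact Algebra.IsIntegral.isIntegral
  haveI := push_preservesFiniteColimits s
  haveI := push_preservesFiniteLimits s
  let R := EtCoh.push i
  haveI : R.IsRightAdjoint := (EtCoh.pullPushAdj i).isRightAdjoint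
  haveI : PreservesFiniteLimits R := inferInstance
  letI := HasDerivedCategory.standard (EtCoh.Ab (Spec (CommRingCat.of K)))
  letI := HasDerivedCategory.standard (EtCoh.Ab X)
  haveI : (EtCoh.pull s).PreservesMonomorphisms := by
    haveI := EtFound.pull_preservesFiniteLimits s
    infer_instance
  intro b
  induction b with
  | zero =>
    intro M
    let Q := Classical.arbitrary (InjectivePresentation M)
    let S := Q.shortComplex.map (EtCoh.push s)
    have hS : S.ShortExact := Q.shortExact_shortComplex.map_of_exact _
    haveI : Injective Q.shortComplex.X₂ := Q.injective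
    haveI : Epi Q.shortComplex.g := Q.shortExact_shortComplex.epi_g
    haveI : Injective S.X₂ := Injective.injective_of_adjoint (EtCoh.pullPushAdj s) _
    haveI : Epi (R.map S.g) := (epi_iff_stalks _).2 fun Ω _ _ η t => by
      let P := Scheme.pointSmallEtale η
      obtain ⟨V, v, q, rfl⟩ := P.toPresheafFiber_jointly_surjective t
      obtain ⟨a, ha⟩ := sect_surjective_of_epi Q.shortComplex.g ((EtCoh.bc s).obj ((EtCoh.bc i).obj V)) q
      exact ⟨P.toPresheafFiber V v (R.obj S.X₂).obj a,
        (P.toPresheafFiber_naturality_apply (R.map S.g).hom V v a).trans (congrArg _ ha)⟩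
    obtain ⟨δ, w₁, w₂, w₃, e₁, e₂, e₃⟩ := TriCat.exists_rightDerived_ses R hS 0
    have hδ : Epi δ := e₃.epi_f ((R.isZero_rightDerived_obj_injective_succ 0 S.X₂).eq_of_tgt _ _)
    haveI : Epi ((R.rightDerived 0).map S.g) := by
      have h := R.rightDerivedZeroIsoSelf.hom.naturality S.g
      have : (R.rightDerived 0).map S.g = R.rightDerivedZeroIsoSelf.hom.app S.X₂ ≫ R.map S.g ≫
          R.rightDerivedZeroIsoSelf.inv.app S.X₃ := by
        rw [← Category.assoc, ← h, Category.assoc, Iso.hom_inv_id_app, Category.comp_id]
      rw [this]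
      infer_instance
    refine @IsZero.of_epi_eq_zero _ _ _ _ _ δ hδ ?_
    exact (cancel_epi ((R.rightDerived 0).map S.g)).1 (w₂.trans comp_zero.symm)
  | succ b ih =>
    intro M
    let Q := Classical.arbitrary (InjectivePresentation M)
    let S := Q.shortComplex.map (EtCoh.push s)
    have hS : S.ShortExact := Q.shortExact_shortComplex.map_of_exact _
    haveI : Injective Q.shortComplex.X₂ := Q.injective
    haveI : Injective S.X₂ := Injective.injective_of_adjoint (EtCoh.pullPushAdj s) _
    obtain ⟨δ, w₁, w₂, w₃, e₁, e₂, e₃⟩ := TriCat.exists_rightDerived_ses R hS (b + 1)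
    have hδ : Epi δ := e₃.epi_f ((R.isZero_rightDerived_obj_injective_succ (b + 1) S.X₂).eq_of_tgt _ _)
    exact @IsZero.of_epi _ _ _ _ _ δ hδ (ih _)

end Groth.Agent.CdLib.SepAcyclic
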