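import Groth.Agent.EtFound.Stalk
import Mathlib.Algebra.Category.Grp.Colimits
import Mathlib.Algebra.Category.Grp.EpiMono
import Mathlib.CategoryTheory.Preadditive.AdditiveFunctor

/-! Coproducts of étale sheaves inside products, checked on stalks. -/

set_option autoImplicit false
set_option backward.isDefEq.respectTransparency.types false

universe w u

open CategoryTheory CategoryTheory.Limits AlgebraicGeometry Opposite

namespace Groth.Agent.CdLib.CoprodProd

section cofan

variable {J : Type w} {B : J → AddCommGrpCat.{u}}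

/-- The elements of a colimit cofan of abelian groups are finite sums. -/
theorem eq_sum_of_isColimit (c : Cofan B) (hc : IsColimit c) (p : ∀ k, c.pt ⟶ B k)
    (hsame : ∀ k, c.inj k ≫ p k = 𝟙 (B k)) (hne : ∀ j k, j ≠ k → c.inj j ≫ p k = 0) (t : c.pt) :
    ∃ S : Finset J, (∀ k, k ∉ S → p k t = 0) ∧ t = ∑ k ∈ S, c.inj k (p k t) := by
  classical
  let H : AddSubgroup c.pt :=
    { carrier := {t | ∃ S : Finset J, ∀ S' : Finset J, S ⊆ S' → t = ∑ k ∈ S', c.inj k (p k t)}
      zero_mem' := ⟨∅, fun S' _ => by simp⟩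
      add_mem' := fun {a b} ⟨S, hS⟩ ⟨T, hT⟩ => ⟨S ∪ T, fun S' h => by
        conv_lhs => rw [hS S' (Finset.union_subset_left h), hT S' (Finset.union_subset_right h)]
        rw [← Finset.sum_add_distrib]
        simp⟩
      neg_mem' := fun {a} ⟨S, hS⟩ => ⟨S, fun S' h => by
        conv_lhs => rw [hS S' h]
        simp⟩ }
  have hinj : ∀ (j : J) (b : B j), c.inj j b ∈ H := by
    intro j b
    refine ⟨{j}, fun S' h => ?_⟩
    rw [Finset.sum_eq_single j]
    · rw [← ConcreteCategory.comp_apply (c.inj j) (p j) b, hsame]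
      rfl
    · intro k _ hk
      rw [← ConcreteCategory.comp_apply (c.inj j) (p k) b, hne j k (Ne.symm hk)]
      simp
    · exact fun h' => absurd (h (Finset.mem_singleton_self j)) h'
  have hmem : t ∈ H := by
    have hq : (AddCommGrpCat.ofHom (QuotientAddGroup.mk' H) : c.pt ⟶ AddCommGrpCat.of (c.pt ⧸ H)) = 0 := by
      refine Cofan.IsColimit.hom_ext hc _ _ fun j => ?_
      ext b
      simp only [ConcreteCategory.comp_apply, AddCommGrpCat.hom_ofHom, AddCommGrpCat.hom_zero, AddMonoidHom.zero_apply]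
      exact (QuotientAddGroup.eq_zero_iff _).2 (hinj j b)
    exact (QuotientAddGroup.eq_zero_iff _).1 (ConcreteCategory.congr_hom hq t)
  obtain ⟨S, hS⟩ := hmem
  refine ⟨S, fun k hk => ?_, hS S subset_rfl⟩
  conv_lhs => rw [hS S subset_rfl]
  rw [map_sum, Finset.sum_eq_zero]
  intro j hj
  rw [← ConcreteCategory.comp_apply (c.inj j) (p k), hne j k (fun e => hk (e ▸ hj))]
  rfl

theorem eq_zero_of_isColimit (c : Cofan B) (hc : IsColimit c) (p : ∀ k, c.pt ⟶ B k)
    (hsame : ∀ k, c.inj k ≫ p k = 𝟙 (B k)) (hne : ∀ j k, j ≠ k → c.inj j ≫ p k = 0) (t : c.pt)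
    (ht : ∀ k, p k t = 0) : t = 0 := by
  obtain ⟨S, -, h⟩ := eq_sum_of_isColimit c hc p hsame hne t
  rw [h]
  exact Finset.sum_eq_zero fun k _ => by rw [ht k, map_zero]

end cofan

variable {X : Scheme.{u}} {J : Type (u + 1)} (M : J → EtCoh.Ab X)

open scoped Classical in
/-- The projection of a coproduct onto a summand. -/
noncomputable def proj (k : J) : ∐ M ⟶ M k :=
  Sigma.desc fun j => if h : j = k then eqToHom (congrArg M h) else 0

theorem ι_proj_self (k : J) : Sigma.ι M k ≫ proj M k = 𝟙 (M k) := by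
  simp [proj]

theorem ι_proj_ne {j k : J} (h : j ≠ k) : Sigma.ι M j ≫ proj M k = 0 := by
  simp [proj, h]

/-- The comparison map from a coproduct to the product. -/
noncomputable def toPi : ∐ M ⟶ ∏ᶜ M := Pi.lift (proj M)

theorem toPi_π (k : J) : toPi M ≫ Pi.π M k = proj M k := Pi.lift_π _ _

variable {Ω : Type u} [Field Ω] [IsSepClosed Ω] (ξ : Spec (CommRingCat.of Ω) ⟶ X)

/-- The stalk of a coproduct. -/
noncomputable def stalkCofanIsColimit :
    IsColimit (Cofan.mk ((EtCoh.stalk ξ).obj (∐ M)) fun j => (EtCoh.stalk ξ).map (Sigma.ι M j)) :=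
  isColimitCofanMkObjOfIsColimit (EtCoh.stalk ξ) M (fun j => Sigma.ι M j) (coproductIsCoproduct M)

theorem stalk_proj_self (k : J) :
    (EtCoh.stalk ξ).map (Sigma.ι M k) ≫ (EtCoh.stalk ξ).map (proj M k) = 𝟙 _ :=
  ((EtCoh.stalk ξ).map_comp _ _).symm.trans
    ((congrArg (EtCoh.stalk ξ).map (ι_proj_self M k)).trans ((EtCoh.stalk ξ).map_id _))

theorem stalk_proj_ne {j k : J} (h : j ≠ k) :
    (EtCoh.stalk ξ).map (Sigma.ι M j) ≫ (EtCoh.stalk ξ).map (proj M k) = 0 :=
  ((EtCoh.stalk ξ).map_comp _ _).symm.trans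
    ((congrArg (EtCoh.stalk ξ).map (ι_proj_ne M h)).trans ((EtCoh.stalk ξ).map_zero _ _))

theorem stalk_eq_zero (t : (EtCoh.stalk ξ).obj (∐ M))
    (ht : ∀ k, (EtCoh.stalk ξ).map (proj M k) t = 0) : t = 0 :=
  eq_zero_of_isColimit (B := fun j => (EtCoh.stalk ξ).obj (M j)) _ (stalkCofanIsColimit M ξ)
    (fun k => (EtCoh.stalk ξ).map (proj M k)) (fun k => stalk_proj_self M ξ k)
    (fun _ _ h => stalk_proj_ne M ξ h) t ht

omit ξ in
instance mono_toPi : Mono (toPi M) := (EtFound.mono_iff_stalks _).2 fun Ω _ _ ξ a b hab => by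
  rw [← sub_eq_zero]
  refine stalk_eq_zero M ξ _ fun k => ?_
  rw [map_sub, sub_eq_zero, ← toPi_π M k, Functor.map_comp, ConcreteCategory.comp_apply,
    ConcreteCategory.comp_apply, hab]

theorem isZero_stalk (h : ∀ k, IsZero ((EtCoh.stalk ξ).obj (M k))) :
    IsZero ((EtCoh.stalk ξ).obj (∐ M)) := by
  haveI : Subsingleton ((EtCoh.stalk ξ).obj (∐ M)) := ⟨fun a b => sub_eq_zero.1
    (stalk_eq_zero M ξ _ fun k => haveI := AddCommGrpCat.subsingleton_of_isZero (h k); Subsingleton.elim _ _)⟩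
  exact AddCommGrpCat.isZero_of_subsingleton _

theorem isIso_stalk_proj (k : J) (h : ∀ j, j ≠ k → IsZero ((EtCoh.stalk ξ).obj (M j))) :
    IsIso ((EtCoh.stalk ξ).map (proj M k)) := by
  refine ⟨(EtCoh.stalk ξ).map (Sigma.ι M k), ?_, stalk_proj_self M ξ k⟩
  refine Cofan.IsColimit.hom_ext (stalkCofanIsColimit M ξ) _ _ fun j => ?_
  by_cases hj : j = k
  · subst hj
    exact (Category.assoc _ _ _).symm.trans ((congrArg (· ≫ _) (stalk_proj_self M ξ j)).trans
      ((Category.id_comp _).trans (Category.comp_id _).symm))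
  · exact (h j hj).eq_of_src _ _

end Groth.Agent.CdLib.CoprodProd
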