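import Groth.Agent.EtFound.GermSupp
import Groth.Agent.EtFound.PullGerm
import Groth.Agent.CdLib.PointPush
import Groth.Agent.CdLib.CoprodProd
import Mathlib.AlgebraicGeometry.Morphisms.QuasiFinite
import Mathlib.AlgebraicGeometry.Morphisms.FormallyUnramified
import Mathlib.RingTheory.Unramified.Finite

/-! The comparison of a sheaf with the sum of its fibres at the points of top level of its support.

If `φ` decreases strictly along specializations and `supp F ⊆ {φ ≤ n}`, then there is a map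
`F ⟶ ⊕_{φ x = n} (i_x)_* (i_x)^* F` whose kernel and cokernel are supported in `{φ < n}`. -/

set_option autoImplicit false
set_option backward.isDefEq.respectTransparency.types false

universe u

open CategoryTheory CategoryTheory.Limits AlgebraicGeometry Opposite Topology

namespace Groth.Agent.CdLib.LevelMap

open Groth.Agent.EtFound

variable {X : Scheme.{u}}

/-- The level set. -/
abbrev Idx (φ : X → ℕ) (n : ℕ) : Type (u + 1) := ULift.{u + 1} {x : X // φ x = n}

variable (φ : X → ℕ) (n : ℕ) (F : EtCoh.Ab X)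

/-- The summands. -/
noncomputable abbrev M (k : Idx φ n) : EtCoh.Ab X :=
  (EtCoh.push (PointPush.ι k.down.1)).obj ((EtCoh.pull (PointPush.ι k.down.1)).obj F)

/-- The map to the product. -/
noncomputable def toPi : F ⟶ ∏ᶜ M φ n F :=
  Pi.lift fun k => (EtCoh.pullPushAdj (PointPush.ι k.down.1)).unit.app F

theorem toPi_π (k : Idx φ n) :
    toPi φ n F ≫ Pi.π (M φ n F) k = (EtCoh.pullPushAdj (PointPush.ι k.down.1)).unit.app F :=
  Pi.lift_π _ _

/-- A section with vanishing germs over `x` has zero restriction to the point `x`. -/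
theorem unit_app_eq_zero (x : X) (U : X.Etale) (s : F.obj.obj (op U))
    (h : ∀ q ∈ germSupp F U s, U.hom.base q ≠ x) :
    ((EtCoh.pullPushAdj (PointPush.ι x)).unit.app F).hom.app (op U) s = 0 := by
  let ι := PointPush.ι x
  refine eq_of_cover ((EtCoh.pull ι).obj F) (U := (EtCoh.bc ι).obj U) _ 0
    (equalizerSieve_mem_of_germs _ _ _ _ fun Ω _ _ ξ t => ?_)
  have hz : (Scheme.pointSmallEtale (ξ ≫ ι)).toPresheafFiber U (bcFiberEquiv ι ξ U t) F.obj s =
      (Scheme.pointSmallEtale (ξ ≫ ι)).toPresheafFiber U (bcFiberEquiv ι ξ U t) F.obj 0 := by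
    rw [map_zero]
    by_contra hne
    refine h _ ((mem_germSupp_iff s _).2 hne) ?_
    have h1 : U.hom.base (ptOf (bcFiberEquiv ι ξ U t)) = (ξ ≫ ι).base (default : Spec (CommRingCat.of Ω)) :=
      base_of_point (bcFiberEquiv ι ξ U t)
    have h2 : (ξ ≫ ι).base (default : Spec (CommRingCat.of Ω)) ∈ Set.range ι.base :=
      ⟨_, (Scheme.Hom.comp_apply _ _ _).symm⟩
    rw [PointPush.range_ι] at h2
    exact h1.trans h2
  refine ((germ_unit_eq_iff (ξ := ξ) (f := ι) F U t s 0).2 hz).trans (congrArg _ ?_)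
  exact map_zero ((((EtCoh.bc ι).sheafAdjunctionContinuous AddCommGrpCat.{u + 1} X.smallEtaleTopology
    (Spec (X.residueField x)).smallEtaleTopology).unit.app F).hom.app (op U)).hom

variable (hφ : ∀ x y : X, x ⤳ y → x ≠ y → φ y < φ x) (hF : ∀ x ∈ EtPBC.supp F, φ x ≤ n)

omit hφ hF in
theorem base_mem_supp (U : X.Etale) (s : F.obj.obj (op U)) {q : U.left} (hq : q ∈ germSupp F U s) :
    U.hom.base q ∈ EtPBC.supp F := by
  obtain ⟨Ω, _, _, ξ, z, hz⟩ := exists_algClosed_point U q
  have h := (mem_germSupp_iff s z).1 ((show ptOf z = q from hz).symm ▸ hq)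
  have h2 := Supp.mem_supp_of_stalk (F := F) ξ fun h0 =>
    h ((AddCommGrpCat.subsingleton_of_isZero h0).elim _ _)
  rw [← hz, base_of_point]
  exact h2

omit hφ hF in
theorem locallyQuasiFinite_of_formallyUnramified {A B : Scheme.{u}} (f : A ⟶ B) [FormallyUnramified f]
    [LocallyOfFiniteType f] : LocallyQuasiFinite f := by
  rw [HasRingHomProperty.iff_appLE (P := @LocallyQuasiFinite)]
  intro U V e
  have h1 : (f.appLE U V e).hom.FormallyUnramified :=
    HasRingHomProperty.appLE (P := @FormallyUnramified) f ‹_› U V e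
  have h2 : (f.appLE U V e).hom.FiniteType := HasRingHomProperty.appLE (P := @LocallyOfFiniteType) f ‹_› U V e
  algebraize [(f.appLE U V e).hom]
  exact (inferInstance : Algebra.QuasiFinite Γ(B, U) Γ(A, V))

include hφ hF in
theorem finite_level [IsLocallyNoetherian X] (U : X.Etale) [IsAffine U.left] (s : F.obj.obj (op U)) :
    {q ∈ germSupp F U s | φ (U.hom.base q) = n}.Finite := by
  haveI : AlgebraicGeometry.Etale U.hom := U.prop
  let f : U.left ⟶ X := U.hom
  haveI : AlgebraicGeometry.Etale f := U.prop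
  haveI : LocallyQuasiFinite f := locallyQuasiFinite_of_formallyUnramified f
  haveI : IsLocallyNoetherian U.left := LocallyOfFiniteType.isLocallyNoetherian f
  haveI : IsNoetherian U.left := {}
  haveI : TopologicalSpace.NoetherianSpace U.left := inferInstance
  let Z : Set U.left := germSupp F U s
  have hZ : IsClosed Z := isClosed_germSupp F U s
  haveI : QuasiSober ↥Z := hZ.isClosedEmbedding_subtypeVal.quasiSober
  have hmax : ∀ (q : ↥Z) (g : ↥Z), φ (U.hom.base q.1) = n → g ⤳ q → g = q := by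
    intro q g hq hg
    have hg' : g.1 ⤳ q.1 := hg.map continuous_subtype_val
    have hb : U.hom.base g.1 = U.hom.base q.1 := by
      by_contra hne
      have h1 := hφ _ _ (hg'.map U.hom.continuous) hne
      have h2 := hF _ (base_mem_supp F U s g.2)
      omega
    exact Subtype.ext ((f.isDiscrete_preimage_singleton (f.base q.1)).eq_of_specializes hg'
      hb rfl)
  have hsub : {q : ↥Z | φ (U.hom.base q.1) = n} ⊆
      ⋃ C ∈ irreducibleComponents ↥Z, {q | ∃ g : ↥Z, IsGenericPoint g C ∧ g = q} := by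
    intro q hq
    obtain ⟨C, hC, hqC⟩ : ∃ C ∈ irreducibleComponents ↥Z, q ∈ C :=
      ⟨irreducibleComponent q, irreducibleComponent_mem_irreducibleComponents q, mem_irreducibleComponent⟩
    obtain ⟨g, hg⟩ := QuasiSober.sober hC.1 (isClosed_of_mem_irreducibleComponents C hC)
    simp only [Set.mem_iUnion]
    exact ⟨C, hC, g, hg, hmax q g hq (hg.specializes hqC)⟩
  have hfin : {q : ↥Z | φ (U.hom.base q.1) = n}.Finite := by
    refine Set.Finite.subset (Set.Finite.biUnion TopologicalSpace.NoetherianSpace.finite_irreducibleComponents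
      fun C _ => Set.Subsingleton.finite ?_) hsub
    rintro a ⟨g, hg, rfl⟩ b ⟨g', hg', rfl⟩
    exact hg.eq hg'
  refine Set.Finite.subset (hfin.image Subtype.val) ?_
  rintro q ⟨hq, hq'⟩
  exact ⟨⟨q, hq⟩, hq', rfl⟩

include hφ hF in
theorem finite_nonzero [IsLocallyNoetherian X] (U : X.Etale) [IsAffine U.left] (s : F.obj.obj (op U)) :
    {k : Idx φ n | ((EtCoh.pullPushAdj (PointPush.ι k.down.1)).unit.app F).hom.app (op U) s ≠ 0}.Finite := by
  have h := (finite_level φ n F hφ hF U s).image U.hom.base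
  refine (h.preimage (f := fun k : Idx φ n => k.down.1) ?_).subset fun k hk => ?_
  · intro a _ b _ hab
    exact ULift.ext _ _ (Subtype.ext hab)
  · by_contra hne
    refine hk (unit_app_eq_zero F k.down.1 U s fun q hq hqk => hne ⟨q, ⟨hq, ?_⟩, hqk⟩)
    rw [hqk]
    exact k.down.2

omit hφ hF in
theorem exists_affine_rep (G : EtCoh.Ab X) {Ω : Type u} [Field Ω] [IsSepClosed Ω]
    (ξ : Spec (CommRingCat.of Ω) ⟶ X) (t : (EtCoh.stalk ξ).obj G) :
    ∃ (U : X.Etale) (_ : IsAffine U.left) (u : (Scheme.pointSmallEtale ξ).fiber.obj U) (s : G.obj.obj (op U)),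
      (Scheme.pointSmallEtale ξ).toPresheafFiber U u G.obj s = t := by
  obtain ⟨U, u, s, rfl⟩ := (Scheme.pointSmallEtale ξ).toPresheafFiber_jointly_surjective t
  obtain ⟨A, hA, huA, -⟩ := exists_isAffineOpen_mem_and_subset (U := (⊤ : U.left.Opens))
    (TopologicalSpace.Opens.mem_top (ptOf u))
  haveI : IsAffine A.toScheme := hA
  obtain ⟨v, hv, -⟩ := exists_lift_point (restrictEtaleHom U A) u ⟨_, huA⟩ rfl
  refine ⟨restrictEtale U A, hA, v, G.obj.map (restrictEtaleHom U A).op s, ?_⟩
  exact ((Scheme.pointSmallEtale ξ).toPresheafFiber_w_apply (restrictEtaleHom U A) v G.obj s).trans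
    (congrArg (fun w => (Scheme.pointSmallEtale ξ).toPresheafFiber U w G.obj s) hv)

include hφ hF in
theorem toPi_comp_cokernel [IsLocallyNoetherian X] :
    toPi φ n F ≫ cokernel.π (CoprodProd.toPi (M φ n F)) = 0 := by
  classical
  let c := CoprodProd.toPi (M φ n F)
  have key : ∀ (U : X.Etale) [IsAffine U.left] (s : F.obj.obj (op U)),
      ∃ s' : (∐ M φ n F : EtCoh.Ab X).obj.obj (op U),
        (toPi φ n F).hom.app (op U) s = c.hom.app (op U) s' := by
    intro U _ s
    let a := fun k : Idx φ n => ((EtCoh.pullPushAdj (PointPush.ι k.down.1)).unit.app F).hom.app (op U) s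
    let S := (finite_nonzero φ n F hφ hF U s).toFinset
    refine ⟨∑ k ∈ S, (Sigma.ι (M φ n F) k).hom.app (op U) (a k), ?_⟩
    let E := sheafToPresheaf X.smallEtaleTopology AddCommGrpCat.{u + 1} ⋙
      (evaluation X.Etaleᵒᵖ AddCommGrpCat.{u + 1}).obj (op U)
    refine Concrete.isLimit_ext _ (isLimitOfPreserves E (productIsProduct (M φ n F))) _ _ ?_
    rintro ⟨k⟩
    change (Pi.π (M φ n F) k).hom.app (op U) ((toPi φ n F).hom.app (op U) s) =
      (Pi.π (M φ n F) k).hom.app (op U) (c.hom.app (op U) _)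
    have e1 : (Pi.π (M φ n F) k).hom.app (op U) ((toPi φ n F).hom.app (op U) s) = a k :=
      congrArg (fun f : F ⟶ M φ n F k => f.hom.app (op U) s) (toPi_π φ n F k)
    have e2 : ∀ z, (Pi.π (M φ n F) k).hom.app (op U) (c.hom.app (op U) z) =
        (CoprodProd.proj (M φ n F) k).hom.app (op U) z := fun z =>
      congrArg (fun f : ∐ M φ n F ⟶ M φ n F k => f.hom.app (op U) z) (CoprodProd.toPi_π (M φ n F) k)
    rw [e1, e2, map_sum]
    rw [Finset.sum_eq_single k]
    · exact (congrArg (fun f : M φ n F k ⟶ M φ n F k => f.hom.app (op U) (a k))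
        (CoprodProd.ι_proj_self (M φ n F) k)).symm
    · intro j _ hj
      exact congrArg (fun f : M φ n F j ⟶ M φ n F k => f.hom.app (op U) (a j))
        (CoprodProd.ι_proj_ne (M φ n F) hj)
    · intro hk
      have h0 : a k = 0 := by
        simpa [S, a] using hk
      simp [h0]
  have h0 : ∀ (Ω : Type u) [Field Ω] [IsSepClosed Ω] (ξ : Spec (CommRingCat.of Ω) ⟶ X)
      (t : (EtCoh.stalk ξ).obj F),
      (EtCoh.stalk ξ).map (toPi φ n F ≫ cokernel.π c) t = 0 := by
    intro Ω _ _ ξ t
    obtain ⟨U, _, u, s, rfl⟩ := exists_affine_rep F ξ t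
    obtain ⟨s', hs'⟩ := key U s
    rw [Functor.map_comp, ConcreteCategory.comp_apply,
      show (EtCoh.stalk ξ).map (toPi φ n F) ((Scheme.pointSmallEtale ξ).toPresheafFiber U u F.obj s) =
        (EtCoh.stalk ξ).map c ((Scheme.pointSmallEtale ξ).toPresheafFiber U u (∐ M φ n F : EtCoh.Ab X).obj s') from
        ((Scheme.pointSmallEtale ξ).toPresheafFiber_naturality_apply (toPi φ n F).hom U u s).trans
          ((congrArg _ hs').trans ((Scheme.pointSmallEtale ξ).toPresheafFiber_naturality_apply c.hom U u s').symm),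
      ← ConcreteCategory.comp_apply, ← Functor.map_comp, cokernel.condition, Functor.map_zero]
    rfl
  have hm : Mono (kernel.ι (toPi φ n F ≫ cokernel.π c)) := inferInstance
  have : Epi (kernel.ι (toPi φ n F ≫ cokernel.π c)) := (epi_iff_stalks _).2 fun Ω _ _ ξ t => by
    have hex := (ShortComplex.ab_exact_iff _).1
      ((ShortComplex.exact_of_f_is_kernel (ShortComplex.mk _ _ (kernel.condition (toPi φ n F ≫ cokernel.π c)))
        (kernelIsKernel _)).map (EtCoh.stalk ξ))
    exact hex t (h0 Ω ξ t)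
  rw [← cancel_epi (kernel.ι (toPi φ n F ≫ cokernel.π c)), kernel.condition, comp_zero]

section

variable [IsLocallyNoetherian X]

/-- The comparison map. -/
noncomputable def map : F ⟶ ∐ M φ n F :=
  Abelian.monoLift (CoprodProd.toPi (M φ n F)) (toPi φ n F) (toPi_comp_cokernel φ n F hφ hF)

theorem map_proj (k : Idx φ n) : map φ n F hφ hF ≫ CoprodProd.proj (M φ n F) k =
    (EtCoh.pullPushAdj (PointPush.ι k.down.1)).unit.app F := by
  rw [← CoprodProd.toPi_π, ← Category.assoc, map, Abelian.monoLift_comp, toPi_π]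

theorem isIso_stalk_map {Ω : Type u} [Field Ω] [IsSepClosed Ω] (ξ : Spec (CommRingCat.of Ω) ⟶ X)
    (hξ : n ≤ φ (Supp.pt ξ)) : IsIso ((EtCoh.stalk ξ).map (map φ n F hφ hF)) := by
  have hz : ∀ k : Idx φ n, k.down.1 ≠ Supp.pt ξ → IsZero ((EtCoh.stalk ξ).obj (M φ n F k)) := by
    intro k hk
    refine Supp.isZero_stalk_of_notMem ξ fun h => ?_
    have := hφ _ _ (PointPush.supp_push_point _ _ h) hk
    rw [k.down.2] at this
    omega
  rcases hξ.lt_or_eq with h | h
  · have h1 : IsZero ((EtCoh.stalk ξ).obj F) :=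
      Supp.isZero_stalk_of_notMem ξ fun h' => absurd (hF _ h') (by omega)
    have h2 : IsZero ((EtCoh.stalk ξ).obj (∐ M φ n F)) :=
      CoprodProd.isZero_stalk _ ξ fun k => hz k fun e => by
        rw [← e, k.down.2] at h
        omega
    exact h1.isIso h2 _
  · let k : Idx φ n := ⟨⟨Supp.pt ξ, h.symm⟩⟩
    have h1 := PointPush.isIso_stalk_unit k.down.1 F ξ rfl
    have h2 : IsIso ((EtCoh.stalk ξ).map (CoprodProd.proj (M φ n F) k)) :=
      CoprodProd.isIso_stalk_proj _ ξ k fun j hj => hz j fun e => hj (ULift.ext _ _ (Subtype.ext e))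
    rw [← map_proj φ n F hφ hF k, Functor.map_comp] at h1
    exact @IsIso.of_isIso_comp_right _ _ _ _ _ _ _ h2 h1

theorem supp_kernel : ∀ x ∈ EtPBC.supp (kernel (map φ n F hφ hF)), φ x < n := by
  intro x hx
  obtain ⟨Ω, _, _, ξ, rfl, hne⟩ := Supp.exists_of_mem_supp hx
  by_contra h
  have := isIso_stalk_map φ n F hφ hF ξ (by omega)
  refine hne (IsZero.of_mono_eq_zero ((EtCoh.stalk ξ).map (kernel.ι (map φ n F hφ hF))) ?_)
  rw [← cancel_mono ((EtCoh.stalk ξ).map (map φ n F hφ hF)), ← Functor.map_comp, kernel.condition,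
    Functor.map_zero, zero_comp]

theorem supp_cokernel : ∀ x ∈ EtPBC.supp (cokernel (map φ n F hφ hF)), φ x < n := by
  intro x hx
  obtain ⟨Ω, _, _, ξ, rfl, hne⟩ := Supp.exists_of_mem_supp hx
  by_contra h
  have := isIso_stalk_map φ n F hφ hF ξ (by omega)
  refine hne (IsZero.of_epi_eq_zero ((EtCoh.stalk ξ).map (cokernel.π (map φ n F hφ hF))) ?_)
  rw [← cancel_epi ((EtCoh.stalk ξ).map (map φ n F hφ hF)), ← Functor.map_comp, cokernel.condition,
    Functor.map_zero, comp_zero]

end

end Groth.Agent.CdLib.LevelMap
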