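import Groth.Agent.CdLib.FieldTransfer
import Groth.Agent.CdLib.LevelMap
import Groth.Agent.TriCat.AcyclicObj
import Groth.Prelude.Def_EtCore
import Mathlib.Algebra.Homology.DerivedCategory.Ext.EnoughInjectives
import Mathlib.Algebra.Homology.DerivedCategory.Ext.ExactSequences

/-! Positive degree cohomology over fields, and higher direct images from spectra of fields, are
torsion. -/

set_option autoImplicit false
set_option backward.isDefEq.respectTransparency.types false

universe u

open CategoryTheory CategoryTheory.Limits CategoryTheory.Abelian AlgebraicGeometry Opposite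

namespace Groth.Agent.CdLib.PointTorsion

open Groth.Agent.EtFound

variable {K : Type u} [Field K]

/-- Higher direct images from the spectrum of a field have torsion stalks. -/
theorem exists_nsmul_stalk_Rpush_eq_zero {X : Scheme.{u}} [QuasiSeparatedSpace X]
    (f : Spec (CommRingCat.of K) ⟶ X) [QuasiCompact f] {Ω : Type u} [Field Ω] [IsSepClosed Ω]
    (ξ : Spec (CommRingCat.of Ω) ⟶ X) :
    ∀ (b : ℕ) (G : EtCoh.Ab (Spec (CommRingCat.of K))) (t : (EtCoh.stalk ξ).obj ((EtCoh.Rpush f (b + 1)).obj G)),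
      ∃ n : ℕ, 0 < n ∧ n • t = 0 := by
  let R := EtCoh.push f
  haveI : R.IsRightAdjoint := (EtCoh.pullPushAdj f).isRightAdjoint
  haveI : PreservesFiniteLimits R := inferInstance
  letI := HasDerivedCategory.standard (EtCoh.Ab (Spec (CommRingCat.of K)))
  letI := HasDerivedCategory.standard (EtCoh.Ab X)
  intro b
  induction b with
  | zero =>
    intro G t
    let Q := Classical.arbitrary (InjectivePresentation G)
    have hS := Q.shortExact_shortComplex
    let S := Q.shortComplex
    haveI : Injective S.X₂ := Q.injective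
    haveI : Epi S.g := hS.epi_g
    obtain ⟨δ, w₁, w₂, w₃, e₁, e₂, e₃⟩ := TriCat.exists_rightDerived_ses R hS 0
    haveI : Epi δ := e₃.epi_f ((R.isZero_rightDerived_obj_injective_succ 0 S.X₂).eq_of_tgt _ _)
    let d : R.obj S.X₃ ⟶ (R.rightDerived 1).obj S.X₁ :=
      R.rightDerivedZeroIsoSelf.inv.app S.X₃ ≫ δ
    have hd : R.map S.g ≫ d = 0 := by
      rw [← Category.assoc, R.rightDerivedZeroIsoSelf.inv.naturality, Category.assoc, w₂, comp_zero]
    haveI : Epi d := epi_comp _ _
    obtain ⟨r, rfl⟩ := (AddCommGrpCat.epi_iff_surjective ((EtCoh.stalk ξ).map d)).1 inferInstance t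
    obtain ⟨V, hV, v, q, rfl⟩ := LevelMap.exists_affine_rep (R.obj S.X₃) ξ r
    let h : V.left ⟶ X := V.hom
    haveI : IsAffine V.left := hV
    haveI : QuasiCompact h := quasiCompact_of_compactSpace h
    haveI : CompactSpace ((EtCoh.bc f).obj V).left :=
      @QuasiCompact.compactSpace_of_compactSpace _ _ (pullback.snd h f)
        (MorphismProperty.pullback_snd (P := @QuasiCompact) h f ‹_›) inferInstance
    obtain ⟨n, hn, a, ha⟩ := FieldTransfer.exists_nsmul_lift S.g ((EtCoh.bc f).obj V) q
    refine ⟨n, hn, ?_⟩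
    let P := Scheme.pointSmallEtale ξ
    have h1 : n • (EtCoh.stalk ξ).map d (P.toPresheafFiber V v (R.obj S.X₃).obj q) =
        (EtCoh.stalk ξ).map d ((EtCoh.stalk ξ).map (R.map S.g) (P.toPresheafFiber V v (R.obj S.X₂).obj a)) := by
      rw [← map_nsmul]
      refine congrArg _ ?_
      refine Eq.trans ?_ (P.toPresheafFiber_naturality_apply (R.map S.g).hom V v a).symm
      exact (map_nsmul (P.toPresheafFiber V v (R.obj S.X₃).obj).hom n q).symm.trans (congrArg _ ha.symm)
    refine Eq.trans h1 ((ConcreteCategory.comp_apply _ _ _).symm.trans ?_)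
    rw [← Functor.map_comp, hd, Functor.map_zero]
    rfl
  | succ b ih =>
    intro G t
    let Q := Classical.arbitrary (InjectivePresentation G)
    have hS := Q.shortExact_shortComplex
    let S := Q.shortComplex
    haveI : Injective S.X₂ := Q.injective
    obtain ⟨δ, w₁, w₂, w₃, e₁, e₂, e₃⟩ := TriCat.exists_rightDerived_ses R hS (b + 1)
    haveI : Epi δ := e₃.epi_f ((R.isZero_rightDerived_obj_injective_succ (b + 1) S.X₂).eq_of_tgt _ _)
    obtain ⟨r, rfl⟩ := (AddCommGrpCat.epi_iff_surjective ((EtCoh.stalk ξ).map δ)).1 inferInstance t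
    obtain ⟨n, hn, h0⟩ := ih S.X₃ r
    exact ⟨n, hn, (map_nsmul _ _ _).symm.trans ((congrArg _ h0).trans (map_zero _))⟩

/-- Positive degree cohomology of a field is torsion. -/
theorem exists_nsmul_H_eq_zero : ∀ (q : ℕ) (G : EtCoh.Ab (Spec (CommRingCat.of K)))
    (x : EtCoh.H (Spec (CommRingCat.of K)) G (q + 1)), ∃ n : ℕ, 0 < n ∧ n • x = 0 := by
  intro q
  induction q with
  | zero =>
    intro G x
    let Q := Classical.arbitrary (InjectivePresentation G)
    have hS := Q.shortExact_shortComplex
    let S := Q.shortComplex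
    haveI : Injective S.X₂ := Q.injective
    haveI : Epi S.g := hS.epi_g
    obtain ⟨y, rfl⟩ := Ext.covariant_sequence_exact₁ _ hS x (Ext.eq_zero_of_injective _) (rfl : 0 + 1 = 1)
    let hT := EtCore.topIsTerminal (Spec (CommRingCat.of K))
    haveI : CompactSpace (EtCoh.top (Spec (CommRingCat.of K))).left :=
      inferInstanceAs (CompactSpace ↥(Spec (CommRingCat.of K)))
    obtain ⟨n, hn, a, ha⟩ := FieldTransfer.exists_nsmul_lift S.g (EtCoh.top _) (Sheaf.H.equiv₀ S.X₃ hT y)
    refine ⟨n, hn, ?_⟩
    have hy : n • y = ((Sheaf.H.equiv₀ S.X₂ hT).symm a).comp (Ext.mk₀ S.g) (add_zero 0) := by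
      refine (Sheaf.H.equiv₀ S.X₃ hT).injective ?_
      rw [map_nsmul, ← ha]
      refine Eq.trans ?_ (Sheaf.H.equiv₀_naturality hT S.g ((Sheaf.H.equiv₀ S.X₂ hT).symm a))
      rw [AddEquiv.apply_symm_apply]
    have h1 : n • y.comp hS.extClass (rfl : 0 + 1 = 1) = (n • y).comp hS.extClass rfl :=
      (map_nsmul (hS.extClass.postcomp _ (rfl : 0 + 1 = 1)) n y).symm
    rw [h1, hy, Ext.comp_assoc_of_second_deg_zero, hS.comp_extClass, Ext.comp_zero]
  | succ q ih =>
    intro G x
    let Q := Classical.arbitrary (InjectivePresentation G)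
    have hS := Q.shortExact_shortComplex
    let S := Q.shortComplex
    haveI : Injective S.X₂ := Q.injective
    obtain ⟨y, rfl⟩ := Ext.covariant_sequence_exact₁ _ hS x (Ext.eq_zero_of_injective _)
      (rfl : (q + 1) + 1 = q + 1 + 1)
    obtain ⟨n, hn, h0⟩ := ih S.X₃ y
    exact ⟨n, hn, (map_nsmul (hS.extClass.postcomp _ (rfl : (q + 1) + 1 = q + 1 + 1)) n y).symm.trans
      ((congrArg _ h0).trans (map_zero _))⟩

end Groth.Agent.CdLib.PointTorsion
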