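import Groth.Agent.CdLib.SepAcyclic
import Groth.Agent.CdLib.PointTorsion
import Groth.Agent.CdLib.Branch
import Groth.Agent.EtFound.AbRecollement

/-! The stalks of higher direct images from the spectrum of a field vanish when the cohomology of
the fields of all branches does. -/

set_option autoImplicit false
set_option backward.isDefEq.respectTransparency.types false

universe u

open CategoryTheory CategoryTheory.Limits CategoryTheory.Abelian AlgebraicGeometry Opposite

namespace Groth.Agent.CdLib.StalkVanish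

open Groth.Agent.EtFound

variable {K : Type u} [Field K]

local notation "Ks" => SeparableClosure K

/-- The unit into the coinduced sheaf. -/
instance mono_unit (G : EtCoh.Ab (Spec (CommRingCat.of K))) :
    Mono ((EtCoh.pullPushAdj (SepLimit.σ K)).unit.app G) := by
  let s := SepLimit.σ K
  let a := (EtCoh.pullPushAdj s).unit.app G
  refine (mono_iff_stalks _).2 fun k _ _ η => ?_
  obtain ⟨Ω, _, _, z, e, he⟩ := exists_lift_extension s η
    ⟨default, Subsingleton.elim _ _⟩
  haveI : IsSplitMono ((EtCoh.pull s).map a) :=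
    ⟨⟨{ retraction := (EtCoh.pullPushAdj s).counit.app ((EtCoh.pull s).obj G)
        id := (EtCoh.pullPushAdj s).left_triangle_components G }⟩⟩
  haveI : Mono ((EtCoh.stalk z).map ((EtCoh.pull s).map a)) := inferInstance
  let i := sheafFiberPullIso (A := AddCommGrpCat.{u + 1}) s z
  haveI h2 : Mono ((EtCoh.stalk (z ≫ s)).map a) := by
    have h := i.inv.naturality a
    haveI : Mono ((EtCoh.stalk (z ≫ s)).map a ≫ i.inv.app _) := by
      rw [show (EtCoh.stalk (z ≫ s)).map a ≫ i.inv.app _ =
        i.inv.app _ ≫ (EtCoh.stalk z).map ((EtCoh.pull s).map a) from h]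
      infer_instance
    exact mono_of_mono _ (i.inv.app _)
  rw [← he] at h2
  let j := stalkExtIso AddCommGrpCat.{u + 1} η e
  haveI : Mono ((EtCoh.stalk η).map a ≫ j.hom.app _) := by
    rw [show (EtCoh.stalk η).map a ≫ j.hom.app _ = j.hom.app _ ≫ (EtCoh.stalk (e ≫ η)).map a from
      j.hom.naturality a]
    infer_instance
  exact (AddCommGrpCat.mono_iff_injective _).1 (mono_of_mono ((EtCoh.stalk η).map a) (j.hom.app _))

/-- The coinduced resolution. -/
noncomputable def coindSES (G : EtCoh.Ab (Spec (CommRingCat.of K))) :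
    ShortComplex (EtCoh.Ab (Spec (CommRingCat.of K))) :=
  ShortComplex.mk ((EtCoh.pullPushAdj (SepLimit.σ K)).unit.app G) (cokernel.π _) (cokernel.condition _)

theorem coindSES_shortExact (G : EtCoh.Ab (Spec (CommRingCat.of K))) : (coindSES G).ShortExact :=
  ShortComplex.ShortExact.mk' (ShortComplex.exact_of_g_is_cokernel _ (cokernelIsCokernel _))
    (mono_unit G) (inferInstanceAs (Epi (cokernel.π _)))

variable {X : Scheme.{u}} {i : Spec (CommRingCat.of K) ⟶ X}
  {Ω : Type u} [Field Ω] [IsSepClosed Ω] {ξ : Spec (CommRingCat.of Ω) ⟶ X}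

/-- Germs transfer through the pullback to the field of a branch. -/
theorem germ_transfer (φ : Branch.Br i ξ) (F : EtCoh.Ab (Spec (CommRingCat.of K)))
    {W W' : (Spec (CommRingCat.of K)).Etale}
    (t : (Scheme.pointSmallEtale (Branch.ζ φ)).fiber.obj ((EtCoh.bc (Branch.π φ)).obj W))
    (t' : (Scheme.pointSmallEtale (Branch.ζ φ)).fiber.obj ((EtCoh.bc (Branch.π φ)).obj W'))
    (a : F.obj.obj (op W)) (a' : F.obj.obj (op W'))
    (h : (Scheme.pointSmallEtale (Branch.ζ φ)).toPresheafFiber _ t ((EtCoh.pull (Branch.π φ)).obj F).obj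
        (((EtCoh.pullPushAdj (Branch.π φ)).unit.app F).hom.app (op W) a) =
      (Scheme.pointSmallEtale (Branch.ζ φ)).toPresheafFiber _ t' ((EtCoh.pull (Branch.π φ)).obj F).obj
        (((EtCoh.pullPushAdj (Branch.π φ)).unit.app F).hom.app (op W') a'))
    (z : (Scheme.pointSmallEtale (SepLimit.σ K)).fiber.obj W)
    (z' : (Scheme.pointSmallEtale (SepLimit.σ K)).fiber.obj W')
    (hz : @Eq (Spec (CommRingCat.of Ks) ⟶ W.left) z.left (bcFiberEquiv (Branch.π φ) (Branch.ζ φ) W t).left)
    (hz' : @Eq (Spec (CommRingCat.of Ks) ⟶ W'.left) z'.left (bcFiberEquiv (Branch.π φ) (Branch.ζ φ) W' t').left) :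
    (Scheme.pointSmallEtale (SepLimit.σ K)).toPresheafFiber W z F.obj a =
      (Scheme.pointSmallEtale (SepLimit.σ K)).toPresheafFiber W' z' F.obj a' := by
  let e := ((sheafFiberPullIso (A := AddCommGrpCat.{u + 1}) (Branch.π φ) (Branch.ζ φ)).app F).symm
  have hW : ∀ (U : (Spec (CommRingCat.of K)).Etale)
      (u : (Scheme.pointSmallEtale (Branch.ζ φ)).fiber.obj ((EtCoh.bc (Branch.π φ)).obj U)) (b : F.obj.obj (op U)),
      e.hom ((Scheme.pointSmallEtale (Branch.ζ φ ≫ Branch.π φ)).toPresheafFiber U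
          (bcFiberEquiv (Branch.π φ) (Branch.ζ φ) U u) F.obj b) =
        (Scheme.pointSmallEtale (Branch.ζ φ)).toPresheafFiber _ u ((EtCoh.pull (Branch.π φ)).obj F).obj
          (((EtCoh.pullPushAdj (Branch.π φ)).unit.app F).hom.app (op U) b) := fun U u b =>
    ConcreteCategory.congr_hom (sheafFiberPullIso_germ (Branch.π φ) (Branch.ζ φ) F U u) b
  rw [← hW, ← hW] at h
  have h' := e.addCommGroupIsoToAddEquiv.injective h
  have hcongr : ∀ {η : Spec (CommRingCat.of Ks) ⟶ Spec (CommRingCat.of K)}, η = SepLimit.σ K →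
      ∀ (u : (Scheme.pointSmallEtale η).fiber.obj W) (u' : (Scheme.pointSmallEtale η).fiber.obj W'),
      @Eq (Spec (CommRingCat.of Ks) ⟶ W.left) u.left z.left →
      @Eq (Spec (CommRingCat.of Ks) ⟶ W'.left) u'.left z'.left →
      (Scheme.pointSmallEtale η).toPresheafFiber W u F.obj a =
        (Scheme.pointSmallEtale η).toPresheafFiber W' u' F.obj a' →
      (Scheme.pointSmallEtale (SepLimit.σ K)).toPresheafFiber W z F.obj a =
        (Scheme.pointSmallEtale (SepLimit.σ K)).toPresheafFiber W' z' F.obj a' := by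
    intro η hη u u' hu hu' he
    subst hη
    obtain rfl : u = z := CategoryTheory.Over.OverMorphism.ext hu
    obtain rfl : u' = z' := CategoryTheory.Over.OverMorphism.ext hu'
    exact he
  exact hcongr (Branch.ζ_π φ) _ _ hz.symm hz'.symm h'

/-- Points of lifts move along morphisms of neighbourhoods. -/
theorem ptOf_symm_map {Y X' : Scheme.{u}} (j : Y ⟶ X') {Ω' : Type u} [Field Ω'] [IsSepClosed Ω']
    (η : Spec (CommRingCat.of Ω') ⟶ Y) {V V' : X'.Etale} (c : V ⟶ V')
    (x : (Scheme.pointSmallEtale (η ≫ j)).fiber.obj V) :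
    ptOf ((bcFiberEquiv j η V').symm ((Scheme.pointSmallEtale (η ≫ j)).fiber.map c x)) =
      ((EtCoh.bc j).map c).left.base (ptOf ((bcFiberEquiv j η V).symm x)) := by
  rw [← ptOf_map ((EtCoh.bc j).map c)]
  refine congrArg ptOf (CategoryTheory.Over.OverMorphism.ext ?_)
  let l : Spec (CommRingCat.of Ω') ⟶ pullback V.hom j :=
    pullback.lift (x.left : Spec (CommRingCat.of Ω') ⟶ V.left) η (CategoryTheory.Over.w x)
  let m : pullback V.hom j ⟶ pullback V'.hom j := ((EtCoh.bc j).map c).left
  let r : Spec (CommRingCat.of Ω') ⟶ pullback V'.hom j :=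
    pullback.lift ((x.left : Spec (CommRingCat.of Ω') ⟶ V.left) ≫ c.left) η
      ((Category.assoc _ _ _).trans ((congrArg _ (MorphismProperty.Over.w c)).trans (CategoryTheory.Over.w x)))
  change r = l ≫ m
  have h1 : m ≫ pullback.fst V'.hom j = pullback.fst V.hom j ≫ c.left :=
    (EtCoh.isPullback_bc_map j c).w
  have h2 : m ≫ pullback.snd V'.hom j = pullback.snd V.hom j := MorphismProperty.Over.w ((EtCoh.bc j).map c)
  refine pullback.hom_ext ?_ ?_
  · simp only [r, l, pullback.lift_fst, pullback.lift_fst_assoc, Category.assoc, h1]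
    rfl
  · simp only [r, l, pullback.lift_snd, Category.assoc, h2]

variable [QuasiSeparatedSpace X] [QuasiCompact i]

/-- The degree one case. -/
theorem exists_lift_nbhd {A B : EtCoh.Ab (Spec (CommRingCat.of K))} (g : A ⟶ B)
    (hsurj : ∀ φ : Branch.Br i ξ, Function.Surjective
      (((EtCoh.pull (Branch.π φ)).map g).hom.app (op (EtCoh.top (Spec (CommRingCat.of (Branch.L φ)))))))
    (V₀ : X.Etale) [IsAffine V₀.left] (v₀ : (Scheme.pointSmallEtale ξ).fiber.obj V₀)
    (q : B.obj.obj (op ((EtCoh.bc i).obj V₀))) :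
    ∃ (V : X.Etale) (v : (Scheme.pointSmallEtale ξ).fiber.obj V) (f : V ⟶ V₀),
      (Scheme.pointSmallEtale ξ).fiber.map f v = v₀ ∧
      ∃ a : A.obj.obj (op ((EtCoh.bc i).obj V)),
        g.hom.app (op ((EtCoh.bc i).obj V)) a = B.obj.map ((EtCoh.bc i).map f).op q := by
  classical
  let P := Scheme.pointSmallEtale ξ
  let S := Scheme.pointSmallEtale (SepLimit.σ K)
  let e₀ := P.fiber.elementsMk V₀ v₀
  -- a point is good when the section lifts on its component
  let Good : ∀ (V : X.Etale) (_ : V ⟶ V₀) (_ : ((EtCoh.bc i).obj V).left), Prop := fun V f w =>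
    ∃ a : A.obj.obj (op (Components.comp ((EtCoh.bc i).obj V) w)),
      g.hom.app (op (Components.comp ((EtCoh.bc i).obj V) w)) a =
        B.obj.map (Components.incl _ w).op (B.obj.map ((EtCoh.bc i).map f).op q)
  have hmono : ∀ {V V' : X.Etale} (c : V' ⟶ V) (f : V ⟶ V₀) (w' : ((EtCoh.bc i).obj V').left),
      Good V f (((EtCoh.bc i).map c).left.base w') → Good V' (c ≫ f) w' := by
    rintro V V' c f w' ⟨a, ha⟩
    let C' := Components.comp ((EtCoh.bc i).obj V') w'
    let C := Components.comp ((EtCoh.bc i).obj V) (((EtCoh.bc i).map c).left.base w')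
    let o' : C'.left ⟶ ((EtCoh.bc i).obj V').left := (Components.single _ w').ι
    let o : C.left ⟶ ((EtCoh.bc i).obj V).left :=
      (Components.single ((EtCoh.bc i).obj V) (((EtCoh.bc i).map c).left.base w')).ι
    let k : ((EtCoh.bc i).obj V').left ⟶ ((EtCoh.bc i).obj V).left := ((EtCoh.bc i).map c).left
    haveI : IsOpenImmersion o := inferInstanceAs (IsOpenImmersion
      (Components.single ((EtCoh.bc i).obj V) (((EtCoh.bc i).map c).left.base w')).ι)
    have hr : Set.range (o' ≫ k).base ⊆ Set.range o.base := by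
      rintro _ ⟨y, rfl⟩
      refine (Scheme.Opens.range_ι _).ge ?_
      refine (Components.mem_single _).2 ((Scheme.Hom.comp_apply o' k y).trans (congrArg k.base ?_))
      exact (Components.mem_single _).1 y.2
    let m : C' ⟶ C := MorphismProperty.Over.homMk (IsOpenImmersion.lift o (o' ≫ k) hr) (by
      change IsOpenImmersion.lift o (o' ≫ k) hr ≫ o ≫ ((EtCoh.bc i).obj V).hom = o' ≫ ((EtCoh.bc i).obj V').hom
      refine (IsOpenImmersion.lift_fac_assoc o (o' ≫ k) hr _).trans ((Category.assoc _ _ _).trans ?_)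
      exact congrArg (o' ≫ ·) (MorphismProperty.Over.w ((EtCoh.bc i).map c)))
    have hm : m ≫ Components.incl _ _ = Components.incl _ w' ≫ (EtCoh.bc i).map c := by
      apply MorphismProperty.Over.Hom.ext
      exact IsOpenImmersion.lift_fac o (o' ≫ k) hr
    refine ⟨A.obj.map m.op a, ?_⟩
    rw [NatTrans.naturality_apply g.hom m.op a, ha]
    simp only [← ConcreteCategory.comp_apply, ← Functor.map_comp, ← op_comp, reassoc_of% hm]
  -- bad lifts
  let bad : ∀ o : Over e₀, (Branch.lifts i ξ).obj o.left → Prop := fun o v =>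
    ¬ Good o.left.1 o.hom.1 (ptOf ((bcFiberEquiv i (SepLimit.σ K) o.left.1).symm v.1))
  have hbad : ∀ {o o' : Over e₀} (a : o ⟶ o') (v : (Branch.lifts i ξ).obj o.left),
      bad o v → bad o' ((Branch.lifts i ξ).map a.left v) := by
    intro o o' a v hv hgood
    apply hv
    have hw : a.left.1 ≫ o'.hom.1 = o.hom.1 := congrArg Subtype.val (Over.w a)
    have hp := ptOf_symm_map i (SepLimit.σ K) a.left.1 v.1
    have := hmono a.left.1 o'.hom.1 _ (Eq.subst (motive := fun w => Good o'.left.1 o'.hom.1 w) hp hgood)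
    rwa [hw] at this
  let F : Over e₀ ⥤ Type u :=
    { obj := fun o => {v : (Branch.lifts i ξ).obj o.left // bad o v}
      map := fun a => TypeCat.ofHom fun v => ⟨(Branch.lifts i ξ).map a.left v.1, hbad a v.1 v.2⟩
      map_id := fun o => by
        ext v
        exact Functor.map_id_apply (Branch.lifts i ξ) o.left v.1
      map_comp := fun a b => by
        ext v
        exact Functor.map_comp_apply (Branch.lifts i ξ) a.left b.left v.1 }
  obtain ⟨o, ho⟩ : ∃ o, IsEmpty (F.obj o) := by
    by_contra hne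
    simp only [not_exists, not_isEmpty_iff] at hne
    haveI : ∀ o, Nonempty (F.obj o) := hne
    haveI : ∀ o, Finite (F.obj o) := fun o => Subtype.finite
    obtain ⟨s, hs⟩ := nonempty_sections_of_finite_cofiltered_system F
    obtain ⟨φ, hφ⟩ := Branch.exists_branch i ξ (e₀ := e₀)
      ⟨fun o => (s o).1, fun {o o'} a => congrArg Subtype.val (hs a)⟩
    -- the component of the base neighbourhood receives the field of the branch
    let W₀ := (EtCoh.bc i).obj V₀
    let w₀ := ptOf (Branch.bp φ v₀)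
    let C₀ := Components.comp W₀ w₀
    let O₀ := Components.single W₀ w₀
    let f₀ : W₀.left ⟶ Spec (CommRingCat.of K) := W₀.hom
    have hA := Components.isAffineOpen_single W₀ w₀
    obtain ⟨l, hl⟩ : ∃ l : Spec (CommRingCat.of Ks) ⟶ O₀.toScheme,
        l ≫ O₀.ι = ((Branch.bp φ v₀).left : Spec (CommRingCat.of Ks) ⟶ W₀.left) :=
      exists_lift_open _ O₀ fun s => by
        rw [Subsingleton.elim (α := Spec (CommRingCat.of Ks)) s default]
        exact (Components.mem_single W₀).2 rfl
    obtain ⟨h, hh⟩ := Spec.map_surjective (S := CommRingCat.of Ks) (l ≫ hA.isoSpec.hom)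
    have hfix : ∀ r, h.hom r ∈ Branch.L φ := by
      intro r
      rw [← InfiniteGalois.fixedField_fixingSubgroup (Branch.L φ)]
      rintro ⟨γ, hγ⟩
      let γs : Spec (CommRingCat.of Ks) ⟶ Spec (CommRingCat.of Ks) :=
        Spec.map (CommRingCat.ofHom γ.toAlgHom.toRingHom)
      have hγv : γs ≫ ((φ.hom.app V₀ v₀).left : Spec (CommRingCat.of Ks) ⟶ V₀.left) = (φ.hom.app V₀ v₀).left := by
        haveI : IsAffine ((Scheme.Etale.forget X).obj V₀).left := ‹IsAffine V₀.left›
        refine ext_of_isAffine (CommRingCat.hom_ext (RingHom.ext fun x => ?_))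
        rw [Scheme.Hom.comp_appTop]
        apply (Scheme.ΓSpecIso (CommRingCat.of Ks)).commRingCatIsoToRingEquiv.injective
        have hx : (Scheme.ΓSpecIso (CommRingCat.of Ks)).hom ((φ.hom.app V₀ v₀).left.appTop x) ∈ Branch.L φ :=
          IntermediateField.subset_adjoin K _ ⟨P.toPresheafFiber V₀ v₀ (EtBase.OO X) x,
            ConcreteCategory.congr_hom (Branch.β_germ φ V₀ v₀) x⟩
        refine (ConcreteCategory.congr_hom (Scheme.ΓSpecIso_naturality (CommRingCat.ofHom γ.toAlgHom.toRingHom))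
          ((φ.hom.app V₀ v₀).left.appTop x)).trans ?_
        exact (IntermediateField.mem_fixingSubgroup_iff _ γ).1 hγ _ hx
      have hbp : γs ≫ ((Branch.bp φ v₀).left : Spec (CommRingCat.of Ks) ⟶ W₀.left) = (Branch.bp φ v₀).left := by
        refine pullback.hom_ext ?_ ?_
        · refine (Category.assoc _ _ _).trans ((congrArg (γs ≫ ·) (Branch.bp_left_fst φ v₀)).trans ?_)
          exact hγv.trans (Branch.bp_left_fst φ v₀).symm
        · refine (Category.assoc _ _ _).trans ((congrArg (γs ≫ ·) (CategoryTheory.Over.w (Branch.bp φ v₀))).trans ?_)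
          refine Eq.trans ?_ (CategoryTheory.Over.w (Branch.bp φ v₀)).symm
          change Spec.map _ ≫ Spec.map _ = Spec.map _
          rw [← Spec.map_comp]
          refine congrArg Spec.map ?_
          apply CommRingCat.hom_ext
          exact γ.toAlgHom.comp_algebraMap
      have hlγ : γs ≫ l = l := by
        rw [← cancel_mono O₀.ι, Category.assoc, hl]
        exact hbp
      have hgh : h ≫ CommRingCat.ofHom γ.toAlgHom.toRingHom = h := by
        apply Spec.map_injective
        rw [Spec.map_comp, hh, ← Category.assoc, hlγ]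
      exact congr(($hgh).hom r)
    let h' : Γ(W₀.left, O₀) ⟶ CommRingCat.of (Branch.L φ) :=
      CommRingCat.ofHom (h.hom.codRestrict (Branch.L φ).toSubalgebra.toSubring hfix)
    have hh' : h' ≫ CommRingCat.ofHom (Branch.L φ).val.toRingHom = h := by
      apply CommRingCat.hom_ext
      apply RingHom.ext
      intro r
      rfl
    let r₀ : Spec (CommRingCat.of (Branch.L φ)) ⟶ C₀.left := Spec.map h' ≫ hA.isoSpec.inv
    have hr₀ : Branch.ζ φ ≫ r₀ = l := by
      refine (Category.assoc _ _ _).symm.trans ?_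
      rw [← Spec.map_comp, hh', hh, Category.assoc]
      exact (congrArg (l ≫ ·) hA.isoSpec.hom_inv_id).trans (Category.comp_id _)
    have hr₀π : r₀ ≫ C₀.hom = Branch.π φ := by
      obtain ⟨κ, hκ⟩ := Spec.map_surjective (R := CommRingCat.of K)
        (S := CommRingCat.of (Branch.L φ)) (r₀ ≫ C₀.hom)
      refine hκ.symm.trans (congrArg Spec.map ?_)
      have hcomp : κ ≫ CommRingCat.ofHom (Branch.L φ).val.toRingHom = CommRingCat.ofHom (algebraMap K Ks) := by
        apply Spec.map_injective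
        rw [Spec.map_comp, hκ]
        change Branch.ζ φ ≫ r₀ ≫ C₀.hom = _
        refine (Category.assoc _ _ _).symm.trans ?_
        rw [hr₀]
        change l ≫ O₀.ι ≫ f₀ = _
        rw [← Category.assoc, hl]
        exact CategoryTheory.Over.w (Branch.bp φ v₀)
      apply CommRingCat.hom_ext
      apply RingHom.ext
      intro x
      exact Subtype.ext congr(($hcomp).hom x)
    let W' := (EtCoh.bc (Branch.π φ)).obj C₀
    let sec : EtCoh.top (Spec (CommRingCat.of (Branch.L φ))) ⟶ W' :=
      MorphismProperty.Over.homMk (pullback.lift r₀ (𝟙 _) (hr₀π.trans (Category.id_comp _).symm))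
        (pullback.lift_snd _ _ _)
    let q₀ : B.obj.obj (op C₀) := B.obj.map (Components.incl W₀ w₀).op q
    let qL : ((EtCoh.pull (Branch.π φ)).obj B).obj.obj (op (EtCoh.top _)) :=
      ((EtCoh.pull (Branch.π φ)).obj B).obj.map sec.op
        (((EtCoh.pullPushAdj (Branch.π φ)).unit.app B).hom.app (op C₀) q₀)
    obtain ⟨sL, hsL⟩ := hsurj φ qL
    obtain ⟨E, _, _, _, _, j, hj, a, t, ht, hta⟩ :=
      SepLimit.exists_of_section A (Branch.L φ) (Branch.ζ φ) rfl (Branch.π φ) (Branch.ζ_π φ) sL
    obtain ⟨e, ae, ψ, z, hz, hzψ⟩ := Branch.exists_component φ E j hj e₀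
    let Z := Components.comp ((EtCoh.bc i).obj e.1) (ptOf (Branch.bp φ e.2))
    have hgood : Good e.1 ae.1 (ptOf (Branch.bp φ e.2)) := by
      refine ⟨A.obj.map ψ.op a, ?_⟩
      haveI : Subsingleton Z.left := ⟨fun a b => Subtype.ext
        (((Components.mem_single _).1 a.2).trans ((Components.mem_single _).1 b.2).symm)⟩
      refine SepLimit.germ_injective B Z z ?_
      rw [NatTrans.naturality_apply g.hom ψ.op a, S.toPresheafFiber_w_apply, hzψ, S.toPresheafFiber_w_apply,
        S.toPresheafFiber_w_apply, hz, Branch.bp_map, show P.fiber.map ae.1 e.2 = v₀ from ae.2]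
      -- compare through the field of the branch
      let Q' := Scheme.pointSmallEtale (Branch.ζ φ)
      let top₀ : Q'.fiber.obj (EtCoh.top _) := CategoryTheory.Over.homMk (Branch.ζ φ) (Category.comp_id _)
      let t₀ := Q'.fiber.map sec top₀
      let z₀ : S.fiber.obj C₀ := CategoryTheory.Over.homMk l (by
        change l ≫ O₀.ι ≫ f₀ = SepLimit.σ K
        rw [← Category.assoc, hl]
        exact CategoryTheory.Over.w (Branch.bp φ v₀))
      have hz₀ : S.fiber.map (Components.incl W₀ w₀) z₀ = Branch.bp φ v₀ :=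
        CategoryTheory.Over.OverMorphism.ext hl
      rw [← hz₀, ← S.toPresheafFiber_w_apply]
      refine germ_transfer φ B t t₀ (g.hom.app (op (SepLimit.obj E)) a) q₀ ?_ (SepLimit.pt j) z₀ ?_ ?_
      · have h1 : ((EtCoh.pullPushAdj (Branch.π φ)).unit.app B).hom.app (op (SepLimit.obj E))
            (g.hom.app (op (SepLimit.obj E)) a) =
          ((EtCoh.pull (Branch.π φ)).map g).hom.app (op ((EtCoh.bc (Branch.π φ)).obj (SepLimit.obj E)))
            (((EtCoh.pullPushAdj (Branch.π φ)).unit.app A).hom.app (op (SepLimit.obj E)) a) :=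
          congrArg (fun k : A ⟶ (EtCoh.push (Branch.π φ)).obj ((EtCoh.pull (Branch.π φ)).obj B) =>
            k.hom.app (op (SepLimit.obj E)) a) ((EtCoh.pullPushAdj (Branch.π φ)).unit.naturality g)
        rw [h1, ← Q'.toPresheafFiber_naturality_apply, hta, Q'.toPresheafFiber_naturality_apply, hsL]
        exact Q'.toPresheafFiber_w_apply sec top₀ _ _
      · exact ht.symm
      · change l = ((t₀.left : Spec (CommRingCat.of Ks) ⟶ W'.left) ≫ pullback.fst C₀.hom (Branch.π φ))
        change l = (Branch.ζ φ ≫ pullback.lift r₀ (𝟙 _) _) ≫ pullback.fst C₀.hom (Branch.π φ)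
        rw [Category.assoc, pullback.lift_fst, hr₀]
    have h2 := (s (Over.mk ae)).2
    refine h2 ?_
    have h3 := hφ (Over.mk ae)
    change φ.hom.app e.1 e.2 = _ at h3
    change Good e.1 ae.1 (ptOf ((bcFiberEquiv i (SepLimit.σ K) e.1).symm (s (Over.mk ae)).1.1))
    rw [← h3]
    exact hgood
  -- shrink to an affine neighbourhood and then away from the points not generalising
  let V₁ := o.left.1
  let v₁ := o.left.2
  obtain ⟨O, hO, hvO, -⟩ := exists_isAffineOpen_mem_and_subset (U := (⊤ : V₁.left.Opens))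
    (TopologicalSpace.Opens.mem_top (ptOf v₁))
  obtain ⟨v₂, hv₂, -⟩ := exists_lift_point (restrictEtaleHom V₁ O) v₁ ⟨_, hvO⟩ rfl
  let V₂ := restrictEtale V₁ O
  let c₂ : V₂ ⟶ V₁ := restrictEtaleHom V₁ O
  let W₂ := (EtCoh.bc i).obj V₂
  let h₂ : V₂.left ⟶ X := V₂.hom
  haveI : IsAffine V₂.left := hO
  haveI : QuasiCompact h₂ := quasiCompact_of_compactSpace h₂
  haveI : CompactSpace W₂.left := @QuasiCompact.compactSpace_of_compactSpace _ _ (pullback.snd h₂ i)
    (MorphismProperty.pullback_snd (P := @QuasiCompact) h₂ i ‹_›) inferInstance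
  haveI := Components.finite W₂
  let fw : W₂.left ⟶ Spec (CommRingCat.of K) := W₂.hom
  haveI : AlgebraicGeometry.Etale fw := W₂.prop
  let p : W₂.left ⟶ V₂.left := pullback.fst V₂.hom i
  have hgood₂ : ∀ w, p.base w ⤳ ptOf v₂ → Good V₂ (c₂ ≫ o.hom.1) w := by
    intro w hw
    obtain ⟨lw, hlw, hlww⟩ := Scheme.exists_fac_of_etale_of_isSepClosed fw (SepLimit.σ K) w
      (Subsingleton.elim _ _)
    let zw : S.fiber.obj W₂ := CategoryTheory.Over.homMk lw hlw
    let u := bcFiberEquiv i (SepLimit.σ K) V₂ zw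
    let o₂ : Over e₀ := Over.mk ((CategoryOfElements.homMk (P.fiber.elementsMk V₂ v₂) o.left c₂ hv₂) ≫ o.hom)
    let a : o₂ ⟶ o := Over.homMk (CategoryOfElements.homMk (P.fiber.elementsMk V₂ v₂) o.left c₂ hv₂) rfl
    have hu : ptOf u = p.base w := by
      refine (Scheme.Hom.comp_apply lw p _).trans ?_
      exact congrArg p.base hlww
    by_contra hng
    let uu : (Branch.lifts i ξ).obj o₂.left := ⟨u, (specializes_of_eq hu).trans hw⟩
    refine ho.false ⟨(Branch.lifts i ξ).map a.left uu, hbad a uu ?_⟩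
    change ¬ Good V₂ (c₂ ≫ o.hom.1) (ptOf ((bcFiberEquiv i (SepLimit.σ K) V₂).symm u))
    rw [show (bcFiberEquiv i (SepLimit.σ K) V₂).symm u = zw from Equiv.symm_apply_apply _ _,
      show ptOf zw = w from hlww]
    exact hng
  let N : Set V₂.left := ⋃ w ∈ {w : W₂.left | ¬ p.base w ⤳ ptOf v₂}, closure {p.base w}
  have hN : IsClosed N := Set.Finite.isClosed_biUnion (Set.toFinite _) fun _ _ => isClosed_closure
  have hv₂N : ptOf v₂ ∉ N := by
    simp only [N, Set.mem_iUnion, not_exists]
    exact fun w hw hc => hw (specializes_iff_mem_closure.2 hc)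
  let O₃ : V₂.left.Opens := ⟨Nᶜ, hN.isOpen_compl⟩
  obtain ⟨v₃, hv₃, -⟩ := exists_lift_point (restrictEtaleHom V₂ O₃) v₂ ⟨_, hv₂N⟩ rfl
  let V₃ := restrictEtale V₂ O₃
  let c₃ : V₃ ⟶ V₂ := restrictEtaleHom V₂ O₃
  let f : V₃ ⟶ V₀ := c₃ ≫ c₂ ≫ o.hom.1
  have hf : P.fiber.map f v₃ = v₀ := by
    simp only [f, Functor.map_comp_apply]
    rw [hv₃, hv₂]
    exact o.hom.2
  let W₃ := (EtCoh.bc i).obj V₃
  have hall : ∀ w : W₃.left, Good V₃ f w := by
    intro w
    refine hmono c₃ (c₂ ≫ o.hom.1) w (hgood₂ _ ?_)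
    by_contra hn
    let k : W₃.left ⟶ W₂.left := ((EtCoh.bc i).map c₃).left
    let p₃ : W₃.left ⟶ V₃.left := pullback.fst V₃.hom i
    have hk : k ≫ p = p₃ ≫ O₃.ι := (EtCoh.isPullback_bc_map i c₃).w
    have h3 : p.base (k.base w) ∈ O₃ := by
      rw [← Scheme.Hom.comp_apply, hk]
      exact (Scheme.Hom.comp_apply p₃ O₃.ι w) ▸ (p₃.base w).2
    exact h3 (Set.mem_biUnion hn (subset_closure rfl))
  choose a ha using hall
  obtain ⟨r, hr⟩ := (Components.bijective_sections W₃ A).2 a
  refine ⟨V₃, v₃, f, hf, r, (Components.bijective_sections W₃ B).1 (funext fun w => ?_)⟩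
  change B.obj.map (Components.incl W₃ w).op (g.hom.app (op W₃) r) = _
  rw [← NatTrans.naturality_apply g.hom, show A.obj.map (Components.incl W₃ w).op r = a w from congrFun hr w, ha]

/-- The main vanishing theorem. -/
theorem subsingleton_stalk_Rpush : ∀ (b : ℕ) (G : EtCoh.Ab (Spec (CommRingCat.of K))),
    (∀ φ : Branch.Br i ξ, Subsingleton (EtCoh.H (Spec (CommRingCat.of (Branch.L φ)))
      ((EtCoh.pull (Branch.π φ)).obj G) (b + 1))) →
    Subsingleton ((EtCoh.stalk ξ).obj ((EtCoh.Rpush i (b + 1)).obj G)) := by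
  let R := EtCoh.push i
  haveI : R.IsRightAdjoint := (EtCoh.pullPushAdj i).isRightAdjoint
  haveI : PreservesFiniteLimits R := inferInstance
  letI := HasDerivedCategory.standard (EtCoh.Ab (Spec (CommRingCat.of K)))
  letI := HasDerivedCategory.standard (EtCoh.Ab X)
  haveI : ∀ φ : Branch.Br i ξ, PreservesFiniteLimits (EtCoh.pull (Branch.π φ)) :=
    fun φ => EtFound.pull_preservesFiniteLimits _
  haveI : ∀ φ : Branch.Br i ξ, PreservesFiniteColimits (EtCoh.pull (Branch.π φ)) :=
    fun φ => haveI := (EtCoh.pullPushAdj (Branch.π φ)).isLeftAdjoint; inferInstance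
  intro b
  induction b with
  | zero =>
    intro G hG
    let S := coindSES G
    have hS : S.ShortExact := coindSES_shortExact G
    obtain ⟨δ, w₁, w₂, w₃, e₁, e₂, e₃⟩ := TriCat.exists_rightDerived_ses R hS 0
    have hz : IsZero ((R.rightDerived 1).obj S.X₂) :=
      SepAcyclic.isZero_Rpush_coind i 0 ((EtCoh.pull (SepLimit.σ K)).obj G)
    have hδ : Epi δ := e₃.epi_f (hz.eq_of_tgt _ _)
    let d : R.obj S.X₃ ⟶ (R.rightDerived 1).obj S.X₁ := R.rightDerivedZeroIsoSelf.inv.app S.X₃ ≫ δ
    have hd : R.map S.g ≫ d = 0 := by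
      rw [← Category.assoc, R.rightDerivedZeroIsoSelf.inv.naturality, Category.assoc, w₂, comp_zero]
    haveI : Epi d := @epi_comp _ _ _ _ _ _ inferInstance δ hδ
    refine subsingleton_of_forall_eq 0 fun t => ?_
    obtain ⟨r, rfl⟩ := (AddCommGrpCat.epi_iff_surjective ((EtCoh.stalk ξ).map d)).1 inferInstance t
    obtain ⟨V, hV, v, q, rfl⟩ := LevelMap.exists_affine_rep (R.obj S.X₃) ξ r
    haveI : IsAffine V.left := hV
    have hsurj : ∀ φ : Branch.Br i ξ, Function.Surjective (((EtCoh.pull (Branch.π φ)).map S.g).hom.app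
        (op (EtCoh.top (Spec (CommRingCat.of (Branch.L φ)))))) := by
      intro φ y
      let hT := EtCore.topIsTerminal (Spec (CommRingCat.of (Branch.L φ)))
      have hS' := hS.map_of_exact (EtCoh.pull (Branch.π φ))
      obtain ⟨x, hx⟩ := Ext.covariant_sequence_exact₃ _ hS'
        ((Sheaf.H.equiv₀ (S.map (EtCoh.pull (Branch.π φ))).X₃ hT).symm y) (n₁ := 1) rfl ((hG φ).elim _ _)
      refine ⟨Sheaf.H.equiv₀ (S.map (EtCoh.pull (Branch.π φ))).X₂ hT x, ?_⟩
      refine (Sheaf.H.equiv₀_naturality hT (S.map (EtCoh.pull (Branch.π φ))).g x).trans ?_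
      exact (congrArg (Sheaf.H.equiv₀ (S.map (EtCoh.pull (Branch.π φ))).X₃ hT) hx).trans
        (AddEquiv.apply_symm_apply _ y)
    obtain ⟨V', v', f, hf, a, ha⟩ := exists_lift_nbhd S.g hsurj V v q
    let P := Scheme.pointSmallEtale ξ
    have h1 : P.toPresheafFiber V v (R.obj S.X₃).obj q =
        (EtCoh.stalk ξ).map (R.map S.g) (P.toPresheafFiber V' v' (R.obj S.X₂).obj a) := by
      rw [← hf, ← P.toPresheafFiber_w_apply]
      exact (congrArg _ ha.symm).trans (P.toPresheafFiber_naturality_apply (R.map S.g).hom V' v' a).symm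
    refine (congrArg _ h1).trans ?_
    refine ((ConcreteCategory.comp_apply _ _ _).symm.trans ?_)
    rw [← Functor.map_comp, hd, Functor.map_zero]
    rfl
  | succ b ih =>
    intro G hG
    let S := coindSES G
    have hS : S.ShortExact := coindSES_shortExact G
    obtain ⟨δ, w₁, w₂, w₃, e₁, e₂, e₃⟩ := TriCat.exists_rightDerived_ses R hS (b + 1)
    have hz : IsZero ((R.rightDerived (b + 1 + 1)).obj S.X₂) :=
      SepAcyclic.isZero_Rpush_coind i (b + 1) ((EtCoh.pull (SepLimit.σ K)).obj G)
    have hδ : Epi δ := e₃.epi_f (hz.eq_of_tgt _ _)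
    haveI := ih S.X₃ fun φ => by
      refine ExtVanish.ext₃ (hS.map_of_exact (EtCoh.pull (Branch.π φ))) _ (b + 1) ?_ (hG φ)
      exact SepAcyclic.subsingleton_H_pull_coind (Branch.L φ) (Branch.π φ) rfl _ b
    exact ((AddCommGrpCat.epi_iff_surjective ((EtCoh.stalk ξ).map δ)).1
      (@Functor.map_epi _ _ _ _ (EtCoh.stalk ξ) _ _ _ δ hδ)).subsingleton

end Groth.Agent.CdLib.StalkVanish
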