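import Groth.Prelude.Def_EtDl
import Groth.Agent.EtFound.PushOutside
import Groth.Agent.EtFound.ExtZeroExact
import Groth.Agent.EtFound.JContGen
import Groth.Agent.EtLC12.ModPullExact
import Mathlib.CategoryTheory.MorphismProperty.OverAdjunction

/-!
# Sheaves of modules supported on a closed subscheme

`i_* ⊣ i^* Γ_Z` for sheaves of modules on small etale sites, and `j_! ≅ j_*` for a clopen immersion.
-/

set_option autoImplicit false
set_option backward.isDefEq.respectTransparency false
set_option backward.isDefEq.respectTransparency.types false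

universe u

open CategoryTheory CategoryTheory.Limits AlgebraicGeometry Opposite

namespace Groth.Agent.CdLib.ClosedSupp

variable (Λ : Type (u + 1)) [CommRing Λ]

noncomputable section

instance : PreservesFilteredColimitsOfSize.{u, u} (forget (ModuleCat.{u + 1} Λ)) :=
  preservesFilteredColimitsOfSize_of_univLE.{u + 1, u + 1, u, u} _

instance : HasProducts.{u} (ModuleCat.{u + 1} Λ) :=
  haveI : HasLimitsOfSize.{u, u} (ModuleCat.{u + 1} Λ) := ModuleCat.hasLimitsOfSize.{u, u, u + 1, u + 1}
  fun _ => inferInstance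

/-- Restriction along an etale morphism is the inverse image. -/
def restrModIsoPull {U X : Scheme.{u}} (j : U ⟶ X) [AlgebraicGeometry.Etale j] [EtShriek.JCont j] :
    EtDl.restrMod Λ j ≅ EtModW.pull Λ j :=
  let a : EtShriek.compEtale j ⊣ EtCoh.bc j :=
    MorphismProperty.Over.mapPullbackAdj EtCoh.etaleMP ⊤ j
      (inferInstanceAs (AlgebraicGeometry.Etale j)) trivial
  Adjunction.leftAdjointUniq
    (a.sheafPushforwardContinuous
      (E := ModuleCat.{u + 1} Λ) U.smallEtaleTopology X.smallEtaleTopology)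
    (EtDl.pullPushModAdj Λ j)

theorem isZero_of_sections {X : Scheme.{u}} (F : EtModW.Mod Λ X)
    (h : ∀ V : X.Etale, IsZero (F.obj.obj (op V))) : IsZero F := by
  rw [IsZero.iff_id_eq_zero]
  apply Sheaf.hom_ext
  apply NatTrans.ext
  funext V
  exact (h V.unop).eq_of_src _ _

theorem isZero_push_section {Z X : Scheme.{u}} (i : Z ⟶ X) (G : EtModW.Mod Λ Z) (V : X.Etale)
    (hV : Disjoint (Set.range V.hom.base) (Set.range i.base)) :
    IsZero (((EtModW.push Λ i).obj G).obj.obj (op V)) := by
  obtain ⟨h⟩ := EtFound.push_unique_of_disjoint i G V hV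
  have : Subsingleton (G.obj.obj (op ((EtCoh.bc i).obj V))) :=
    ⟨fun a b => (h.eq_default a).trans (h.eq_default b).symm⟩
  exact @ModuleCat.isZero_of_subsingleton _ _ (G.obj.obj (op ((EtCoh.bc i).obj V))) this

/-- A direct image restricts to zero on an etale scheme missing the image. -/
theorem isZero_pull_push {Z U X : Scheme.{u}} (i : Z ⟶ X) (j : U ⟶ X) [AlgebraicGeometry.Etale j]
    [EtShriek.JCont j] (hd : Disjoint (Set.range j.base) (Set.range i.base)) (G : EtModW.Mod Λ Z) :
    IsZero ((EtModW.pull Λ j).obj ((EtModW.push Λ i).obj G)) := by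
  refine IsZero.of_iso (isZero_of_sections Λ _ fun W => ?_) ((restrModIsoPull Λ j).app _).symm
  refine isZero_push_section Λ i G ((EtShriek.compEtale j).obj W) (hd.mono_left ?_)
  rintro _ ⟨w, rfl⟩
  exact ⟨W.hom.base w, (Scheme.Hom.comp_apply W.hom j w).symm⟩

section

variable {Z U X : Scheme.{u}} (i : Z ⟶ X) (j : U ⟶ X)

theorem unitMod_eq (F : EtModW.Mod Λ X) :
    EtDl.unitMod Λ j F = (EtDl.pullPushModAdj Λ j).unit.app F := rfl

theorem kernelι_naturality {F G : EtModW.Mod Λ X} (φ : F ⟶ G) :
    (EtDl.secSuppMod Λ j).map φ ≫ kernel.ι (EtDl.unitMod Λ j G) =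
      kernel.ι (EtDl.unitMod Λ j F) ≫ φ :=
  kernel.lift_ι _ _ _

theorem isZero_pull_secSupp (F : EtModW.Mod Λ X) :
    IsZero ((EtModW.pull Λ j).obj ((EtDl.secSuppMod Λ j).obj F)) := by
  have := EtLC12.ModPullExact.pull_preservesFiniteLimits Λ j
  rw [IsZero.iff_id_eq_zero]
  have hm : Mono ((EtModW.pull Λ j).map (kernel.ι (EtDl.unitMod Λ j F))) := inferInstance
  have he : Mono ((EtModW.pull Λ j).map (EtDl.unitMod Λ j F)) :=
    SplitMono.mono ⟨(EtDl.pullPushModAdj Λ j).counit.app _,
      (EtDl.pullPushModAdj Λ j).left_triangle_components F⟩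
  have h0 : (EtModW.pull Λ j).map (kernel.ι (EtDl.unitMod Λ j F)) = 0 := by
    rw [← cancel_mono ((EtModW.pull Λ j).map (EtDl.unitMod Λ j F)), ← Functor.map_comp,
      kernel.condition, Functor.map_zero, zero_comp]
  exact hm.right_cancellation _ _ (by
    show 𝟙 _ ≫ (EtModW.pull Λ j).map (kernel.ι (EtDl.unitMod Λ j F)) = 0 ≫ _
    rw [h0, comp_zero, comp_zero])

variable [IsClosedImmersion i] [IsOpenImmersion j] (hij : Set.range j.base = (Set.range i.base)ᶜ)

include hij

omit [IsClosedImmersion i] [IsOpenImmersion j] in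
theorem disjoint_compl : Disjoint (Set.range j.base) (Set.range i.base) := by
  rw [hij]; exact disjoint_compl_left

theorem comp_unitMod_eq_zero (G : EtModW.Mod Λ Z) (F : EtModW.Mod Λ X)
    (φ : (EtModW.push Λ i).obj G ⟶ F) : φ ≫ EtDl.unitMod Λ j F = 0 := by
  rw [unitMod_eq]
  refine ((EtDl.pullPushModAdj Λ j).unit.naturality φ).trans ?_
  have h : (EtModW.pull Λ j).map φ = 0 :=
    (isZero_pull_push Λ i j (disjoint_compl i j hij) G).eq_of_src _ _
  dsimp only [Functor.comp_map]
  rw [h, Functor.map_zero, comp_zero]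

theorem isIso_unit_secSupp (F : EtModW.Mod Λ X) :
    IsIso ((EtDl.pullPushModAdj Λ i).unit.app ((EtDl.secSuppMod Λ j).obj F)) := by
  refine EtFound.unit_isIso_of_outside i (EtFound.liftable_of_isClosedImmersion i)
    i.isClosedEmbedding.isClosed_range _ fun k _ _ ξ hξ => ?_
  refine EtFound.nonempty_unique_stalk i.isClosedEmbedding.isClosed_range _ (fun V hV => ?_) ξ hξ
  have hle : Set.range V.hom.base ⊆ Set.range j.base := by
    rw [hij]; exact hV.subset_compl_right
  let w := IsOpenImmersion.lift j V.hom hle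
  have hw : w ≫ j = V.hom := IsOpenImmersion.lift_fac j V.hom hle
  have : AlgebraicGeometry.Etale V.hom := V.prop
  have : AlgebraicGeometry.Etale (w ≫ j) := by rw [hw]; infer_instance
  have : AlgebraicGeometry.Etale w :=
    EtCoh.etaleMP.of_postcomp (W' := EtCoh.etaleMP) w j (inferInstanceAs (AlgebraicGeometry.Etale j)) this
  have e : (EtShriek.compEtale j).obj (Scheme.Etale.mk w) ≅ V :=
    MorphismProperty.Over.isoMk (Iso.refl _) (by simp [hw])
  have hz : IsZero ((EtDl.restrMod Λ j).obj ((EtDl.secSuppMod Λ j).obj F)) :=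
    (isZero_pull_secSupp Λ j F).of_iso ((restrModIsoPull Λ j).app _)
  have hz' : IsZero (((EtDl.secSuppMod Λ j).obj F).obj.obj (op V)) := by
    refine IsZero.of_iso ?_ (((EtDl.secSuppMod Λ j).obj F).obj.mapIso e.op)
    exact ((sheafToPresheaf _ _ ⋙ (evaluation _ _).obj (op (Scheme.Etale.mk w))).map_isZero hz :)
  have := ModuleCat.subsingleton_of_isZero hz'
  exact ⟨@Unique.mk' _ ⟨(0 : ((EtDl.secSuppMod Λ j).obj F).obj.obj (op V))⟩ this⟩

omit hij [IsOpenImmersion j] in
theorem push_fullyFaithful : (EtModW.push Λ i).Full ∧ (EtModW.push Λ i).Faithful := by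
  have : IsIso (EtDl.pullPushModAdj Λ i).counit := by
    have : ∀ G, IsIso ((EtDl.pullPushModAdj Λ i).counit.app G) := fun G =>
      EtFound.counit_isIso i (EtFound.liftable_of_isClosedImmersion i) G
    exact NatIso.isIso_of_isIso_app _
  have ff := (EtDl.pullPushModAdj Λ i).fullyFaithfulROfIsIsoCounit
  exact ⟨ff.full, ff.faithful⟩

/-- The transpose of a morphism to the supported sections. -/
def transpose (G : EtModW.Mod Λ Z) (F : EtModW.Mod Λ X)
    (g : G ⟶ (EtDl.secSuppMod Λ j ⋙ EtModW.pull Λ i).obj F) : (EtModW.push Λ i).obj G ⟶ F :=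
  haveI := isIso_unit_secSupp Λ i j hij F
  (EtModW.push Λ i).map g ≫
    inv ((EtDl.pullPushModAdj Λ i).unit.app ((EtDl.secSuppMod Λ j).obj F)) ≫
      kernel.ι (EtDl.unitMod Λ j F)

theorem transpose_bijective (G : EtModW.Mod Λ Z) (F : EtModW.Mod Λ X) :
    Function.Bijective (transpose Λ i j hij G F) := by
  have := isIso_unit_secSupp Λ i j hij F
  obtain ⟨_, _⟩ := push_fullyFaithful Λ i
  constructor
  · intro a b h
    unfold transpose at h
    rw [← Category.assoc, ← Category.assoc, cancel_mono] at h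
    exact (EtModW.push Λ i).map_injective ((cancel_mono _).1 h)
  · intro φ
    obtain ⟨g, hg⟩ := (EtModW.push Λ i).map_surjective
      ((kernel.lift _ φ (comp_unitMod_eq_zero Λ i j hij G F φ) :
          (EtModW.push Λ i).obj G ⟶ (EtDl.secSuppMod Λ j).obj F) ≫
        (EtDl.pullPushModAdj Λ i).unit.app ((EtDl.secSuppMod Λ j).obj F))
    refine ⟨g, ?_⟩
    unfold transpose
    rw [hg]
    simp only [Category.assoc, IsIso.hom_inv_id_assoc]
    exact kernel.lift_ι _ _ _

theorem transpose_comp_left {G G' : EtModW.Mod Λ Z} (f : G' ⟶ G) (F : EtModW.Mod Λ X)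
    (g : G ⟶ (EtDl.secSuppMod Λ j ⋙ EtModW.pull Λ i).obj F) :
    transpose Λ i j hij G' F (f ≫ g) = (EtModW.push Λ i).map f ≫ transpose Λ i j hij G F g := by
  simp [transpose]

theorem transpose_comp_right (G : EtModW.Mod Λ Z) {F F' : EtModW.Mod Λ X}
    (g : G ⟶ (EtDl.secSuppMod Λ j ⋙ EtModW.pull Λ i).obj F) (f : F ⟶ F') :
    transpose Λ i j hij G F' (g ≫ (EtDl.secSuppMod Λ j ⋙ EtModW.pull Λ i).map f) =
      transpose Λ i j hij G F g ≫ f := by
  have := isIso_unit_secSupp Λ i j hij F
  have := isIso_unit_secSupp Λ i j hij F'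
  unfold transpose
  rw [Functor.map_comp, Category.assoc, Category.assoc, Category.assoc]
  congr 1
  rw [← kernelι_naturality, ← Category.assoc, ← Category.assoc]
  congr 1
  rw [IsIso.comp_inv_eq, Category.assoc, IsIso.eq_inv_comp]
  exact ((EtDl.pullPushModAdj Λ i).unit.naturality ((EtDl.secSuppMod Λ j).map f)).symm

/-- `i_* ⊣ i^* Γ_Z`. -/
def adj : EtModW.push Λ i ⊣ EtDl.secSuppMod Λ j ⋙ EtModW.pull Λ i :=
  Adjunction.mkOfHomEquiv
    { homEquiv := fun G F => (Equiv.ofBijective _ (transpose_bijective Λ i j hij G F)).symm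
      homEquiv_naturality_left_symm := fun f g => transpose_comp_left Λ i j hij f _ g
      homEquiv_naturality_right := fun {G F F'} φ f => by
        rw [Equiv.symm_apply_eq]
        refine (Eq.trans ?_ (transpose_comp_right Λ i j hij G _ f).symm)
        exact congrArg (· ≫ f) (Equiv.apply_symm_apply
          (Equiv.ofBijective _ (transpose_bijective Λ i j hij G F)) φ).symm }

end

section Clopen

variable {U X : Scheme.{u}} (j : U ⟶ X) [IsOpenImmersion j] [IsClosedImmersion j]

/-- The open complement of a closed immersion. -/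
def complOpen : X.Opens := ⟨(Set.range j.base)ᶜ, j.isClosedEmbedding.isClosed_range.isOpen_compl⟩

omit [IsOpenImmersion j] in
theorem range_complOpen : Set.range (complOpen j).ι.base = (Set.range j.base)ᶜ :=
  (complOpen j).range_ι

/-- For a clopen immersion, supported sections and restriction agree on the clopen subscheme. -/
def secSuppPullIso : EtDl.secSuppMod Λ (complOpen j).ι ⋙ EtModW.pull Λ j ≅ EtModW.pull Λ j :=
  haveI : ∀ F, IsIso ((EtModW.pull Λ j).map (kernel.ι (EtDl.unitMod Λ (complOpen j).ι F))) := fun F => by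
    haveI := EtLC12.ModPullExact.pull_preservesFiniteLimits Λ j
    have hd : Disjoint (Set.range j.base) (Set.range (complOpen j).ι.base) := by
      rw [range_complOpen]; exact disjoint_compl_right
    have hz : (EtModW.pull Λ j).map (EtDl.unitMod Λ (complOpen j).ι F) = 0 :=
      (isZero_pull_push Λ (complOpen j).ι j hd _).eq_of_tgt _ _
    let S : ShortComplex (EtModW.Mod Λ X) :=
      ShortComplex.mk _ _ (kernel.condition (EtDl.unitMod Λ (complOpen j).ι F))
    have hS : S.Exact := ShortComplex.exact_of_f_is_kernel _ (kernelIsKernel _)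
    have : Mono S.f := inferInstanceAs (Mono (kernel.ι _))
    have h2 : (S.map (EtModW.pull Λ j)).Exact :=
      hS.map_of_mono_of_preservesKernel (EtModW.pull Λ j) this inferInstance
    have : Epi ((EtModW.pull Λ j).map (kernel.ι (EtDl.unitMod Λ (complOpen j).ι F))) := h2.epi_f hz
    have : Mono ((EtModW.pull Λ j).map (kernel.ι (EtDl.unitMod Λ (complOpen j).ι F))) := inferInstance
    exact isIso_of_mono_of_epi _
  NatIso.ofComponents
    (fun F => asIso ((EtModW.pull Λ j).map (kernel.ι (EtDl.unitMod Λ (complOpen j).ι F))))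
    (fun {F G} φ => by
      dsimp only [asIso_hom, Functor.comp_map]
      rw [← Functor.map_comp, ← Functor.map_comp, kernelι_naturality])

/-- For a clopen immersion extension by zero is the direct image. -/
def extZeroModIsoPush : EtDl.extZeroMod Λ j ≅ EtModW.push Λ j :=
  Adjunction.leftAdjointUniq (EtDl.extZeroModAdj Λ j)
    ((adj Λ j (complOpen j).ι (range_complOpen j)).ofNatIsoRight
      (secSuppPullIso Λ j ≪≫ (restrModIsoPull Λ j).symm))

end Clopen

end

end Groth.Agent.CdLib.ClosedSupp
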