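import Groth.Agent.EtFound.CoprodSections
import Groth.Agent.CdLib.Components
import Groth.Agent.EtFound.Germ
import Groth.Agent.EtFound.PushImm
import Groth.Agent.SiteBase.AbSecExact
import Mathlib.FieldTheory.Galois.GaloisClosure
import Mathlib.FieldTheory.Normal.Basic
import Mathlib.RingTheory.Etale.Field
import Mathlib.RingTheory.Unramified.Finite
import Mathlib.RingTheory.Unramified.Field
import Mathlib.AlgebraicGeometry.Morphisms.QuasiFinite

/-! Averaging over Galois covers: on étale schemes over fields, a positive multiple of every section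
lifts along an epimorphism of abelian sheaves. -/

set_option autoImplicit false
set_option backward.isDefEq.respectTransparency.types false

universe u

open CategoryTheory CategoryTheory.Limits AlgebraicGeometry Opposite

namespace Groth.Agent.CdLib.FieldTransfer

open Groth.Agent.EtFound

/-- An étale scheme over a field is refined at any point by a finite Galois extension. -/
theorem exists_galois_refinement {L : Type u} [Field L] {V : Scheme.{u}}
    (f : V ⟶ Spec (CommRingCat.of L)) [AlgebraicGeometry.Etale f] (v : V) :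
    ∃ (N : Type u) (_ : Field N) (_ : Algebra L N) (_ : FiniteDimensional L N) (_ : IsGalois L N)
      (m : Spec (CommRingCat.of N) ⟶ V), m ≫ f = Spec.map (CommRingCat.ofHom (algebraMap L N)) := by
  obtain ⟨C0, w, hw, ⟨c, hc⟩, -⟩ := Scheme.exists_affine_mem_range_and_range_subset
    (x := v) (U := (⊤ : V.Opens)) (by simp)
  obtain ⟨φ, hφ⟩ := Spec.map_surjective (R := CommRingCat.of L) (w ≫ f)
  algebraize [φ.hom]
  haveI hwf : AlgebraicGeometry.Etale (w ≫ f) := inferInstance
  have : Algebra.Etale L C0 := RingHom.etale_algebraMap.1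
    ((HasRingHomProperty.Spec_iff (P := @AlgebraicGeometry.Etale)).mp (hφ.symm ▸ hwf))
  let Ls := SeparableClosure L
  obtain ⟨z, hz, -⟩ := Scheme.exists_fac_of_etale_of_isSepClosed (w ≫ f)
    (Spec.map (CommRingCat.ofHom (algebraMap L Ls))) c (Subsingleton.elim _ _)
  obtain ⟨ψ, rfl⟩ := Spec.map_surjective z
  have hψ : φ ≫ ψ = CommRingCat.ofHom (algebraMap L Ls) := by
    apply Spec.map_injective
    rw [Spec.map_comp, hφ, hz]
  let ψa : C0 →ₐ[L] Ls := { ψ.hom with commutes' := fun r => congr($(hψ).hom r) }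
  obtain ⟨s, hs⟩ := (inferInstance : Algebra.FiniteType L C0).out
  let N := FiniteGaloisIntermediateField.adjoin L (ψa '' (s : Set C0))
  have hmem : ∀ c, ψa c ∈ N.toIntermediateField.toSubalgebra := by
    intro c
    have h1 : c ∈ Algebra.adjoin L (s : Set C0) := hs ▸ Algebra.mem_top
    have h2 : ψa c ∈ Algebra.adjoin L (ψa '' (s : Set C0)) := by
      rw [← AlgHom.map_adjoin]
      exact ⟨c, h1, rfl⟩
    exact Algebra.adjoin_le (FiniteGaloisIntermediateField.subset_adjoin L _) h2
  let χ : C0 →ₐ[L] N := ψa.codRestrict _ hmem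
  refine ⟨N, inferInstance, inferInstance, N.finiteDimensional, N.isGalois,
    Spec.map (CommRingCat.ofHom χ.toRingHom) ≫ w, ?_⟩
  rw [Category.assoc, ← hφ, ← Spec.map_comp]
  refine congrArg Spec.map ?_
  apply CommRingCat.hom_ext
  exact χ.comp_algebraMap

variable {X : Scheme.{u}}

section descent

variable {L N : Type u} [Field L] [Field N] [Algebra L N]

theorem surjective_of_iso {U W : X.Etale} (π : W ⟶ U) (eU : Spec (CommRingCat.of L) ≅ U.left)
    (eW : Spec (CommRingCat.of N) ≅ W.left)
    (hπ : eW.hom ≫ π.left = Spec.map (CommRingCat.ofHom (algebraMap L N)) ≫ eU.hom) :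
    ∀ x : U.left, ∃ (_ : PUnit.{1}) (z : W.left), π.left.base z = x := fun x => by
  obtain ⟨y, rfl⟩ := eU.hom.surjective x
  refine ⟨PUnit.unit, eW.hom.base (default : Spec (CommRingCat.of N)), ?_⟩
  let f : W.left ⟶ U.left := π.left
  have h := congrArg (fun k : Spec (CommRingCat.of N) ⟶ U.left => k.base (default : Spec (CommRingCat.of N))) hπ
  exact ((Scheme.Hom.comp_apply eW.hom f _).symm.trans h).trans
    ((Scheme.Hom.comp_apply _ eU.hom _).trans (congrArg _ (Subsingleton.elim _ _)))

/-- Galois descent of sections. -/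
theorem galois_descend [Normal L N] [FiniteDimensional L N] {U W : X.Etale} (π : W ⟶ U)
    (eU : Spec (CommRingCat.of L) ≅ U.left) {eW : Spec (CommRingCat.of N) ≅ W.left}
    (hπ : eW.hom ≫ π.left = Spec.map (CommRingCat.ofHom (algebraMap L N)) ≫ eU.hom)
    (A : EtCoh.Ab X) (a₂ : A.obj.obj (op W))
    (hinv : ∀ (γ : N ≃ₐ[L] N) (gW : W ⟶ W),
      eW.hom ≫ gW.left = Spec.map (CommRingCat.ofHom γ.toAlgHom.toRingHom) ≫ eW.hom →
      A.obj.map gW.op a₂ = a₂) :
    ∃ a : A.obj.obj (op U), A.obj.map π.op a = a₂ := by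
  classical
  have hsh := isSheafFor_of_covers A (fun _ : PUnit.{1} => W) (fun _ => π) (surjective_of_iso π eU eW hπ)
  let f : W.left ⟶ U.left := π.left
  let γW : (N ≃ₐ[L] N) → (W ⟶ W) := fun γ => MorphismProperty.Over.homMk
    (eW.inv ≫ Spec.map (CommRingCat.ofHom γ.toAlgHom.toRingHom) ≫ eW.hom) (by
      have hw : f ≫ U.hom = W.hom := MorphismProperty.Over.w π
      have hfix : Spec.map (CommRingCat.ofHom γ.toAlgHom.toRingHom) ≫ eW.hom ≫ f = eW.hom ≫ f := by
        rw [hπ, ← Category.assoc, ← Spec.map_comp]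
        refine congrArg (fun k => Spec.map k ≫ eU.hom) ?_
        ext r
        exact γ.commutes r
      change (eW.inv ≫ _ ≫ eW.hom) ≫ W.hom = W.hom
      refine (congrArg (fun k => _ ≫ k) hw.symm).trans (Eq.trans ?_ hw)
      simp only [Category.assoc]
      refine (congrArg (eW.inv ≫ ·) ?_).trans (eW.inv_hom_id_assoc (f ≫ U.hom))
      rw [← Category.assoc eW.hom f, ← Category.assoc (Spec.map _) (eW.hom ≫ f), hfix, Category.assoc])
  have hcomp : Presieve.Arrows.Compatible (A.obj ⋙ forget AddCommGrpCat.{u + 1})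
      (fun _ : PUnit.{1} => π) (fun _ => a₂) := by
    intro _ _ T e₁ e₂ he
    change A.obj.map e₁.op a₂ = A.obj.map e₂.op a₂
    refine eq_of_cover A _ _ (equalizerSieve_mem_of_germs _ _ _ _ fun Ω _ _ η t => ?_)
    let P := Scheme.pointSmallEtale η
    rw [P.toPresheafFiber_w_apply, P.toPresheafFiber_w_apply]
    let z₁ := P.fiber.map e₁ t
    let z₂ := P.fiber.map e₂ t
    have hz : P.fiber.map π z₁ = P.fiber.map π z₂ := by
      simp only [z₁, z₂, ← Functor.map_comp_apply, he]
    obtain ⟨σ₁, hσ₁⟩ := Spec.map_surjective ((z₁.left : Spec (CommRingCat.of Ω) ⟶ W.left) ≫ eW.inv)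
    obtain ⟨σ₂, hσ₂⟩ := Spec.map_surjective ((z₂.left : Spec (CommRingCat.of Ω) ⟶ W.left) ≫ eW.inv)
    have hσ : CommRingCat.ofHom (algebraMap L N) ≫ σ₁ = CommRingCat.ofHom (algebraMap L N) ≫ σ₂ := by
      apply Spec.map_injective
      rw [Spec.map_comp, Spec.map_comp, hσ₁, hσ₂, ← cancel_mono eU.hom]
      simp only [Category.assoc, ← hπ]
      erw [Iso.inv_hom_id_assoc]
      exact congr(($hz).left)
    algebraize [σ₁.hom, σ₁.hom.comp (algebraMap L N)]
    haveI : IsScalarTower L N Ω := IsScalarTower.of_algebraMap_eq fun _ => rfl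
    let f₂ : N →ₐ[L] Ω := { σ₂.hom with commutes' := fun r => congr(($hσ).hom r).symm }
    let γ : N ≃ₐ[L] N := Normal.algHomEquivAut L Ω N f₂
    have hγ : ∀ x, σ₁.hom (γ x) = σ₂.hom x := fun x =>
      congr($((Normal.algHomEquivAut L Ω N).symm_apply_apply f₂) x)
    have hzγ : P.fiber.map (γW γ) z₁ = z₂ := by
      apply CategoryTheory.Over.OverMorphism.ext
      change (z₁.left : Spec (CommRingCat.of Ω) ⟶ W.left) ≫ eW.inv ≫ Spec.map _ ≫ eW.hom =
        (z₂.left : Spec (CommRingCat.of Ω) ⟶ W.left)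
      rw [← Category.assoc]
      refine (congrArg (· ≫ _) hσ₁.symm).trans ?_
      rw [← cancel_mono eW.inv, Category.assoc, Category.assoc, Iso.hom_inv_id, Category.comp_id,
        ← Spec.map_comp]
      refine Eq.trans ?_ hσ₂
      refine congrArg Spec.map ?_
      ext x
      exact hγ x
    show P.toPresheafFiber W z₁ A.obj a₂ = P.toPresheafFiber W z₂ A.obj a₂
    rw [← hzγ]
    refine ((P.toPresheafFiber_w_apply (γW γ) z₁ A.obj a₂).symm.trans (congrArg _ (hinv γ _ ?_))).symm
    change eW.hom ≫ eW.inv ≫ _ ≫ eW.hom = _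
    exact eW.hom_inv_id_assoc _
  obtain ⟨a, ha, -⟩ := (Presieve.isSheafFor_arrows_iff _ _).1 hsh _ hcomp
  exact ⟨a, ha PUnit.unit⟩

end descent

/-- A positive multiple of a section on the spectrum of a field lifts along an epimorphism. -/
theorem exists_nsmul_lift_of_field {A B : EtCoh.Ab X} (g : A ⟶ B) [Epi g] (U : X.Etale)
    {L : Type u} [Field L] (e : Spec (CommRingCat.of L) ≅ U.left) (q : B.obj.obj (op U)) :
    ∃ n : ℕ, 0 < n ∧ ∃ a : A.obj.obj (op U), g.hom.app (op U) a = n • q := by
  classical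
  have hloc : Presheaf.IsLocallySurjective X.smallEtaleTopology g.hom :=
    (Sheaf.isLocallySurjective_iff_epi' AddCommGrpCat.{u + 1} g).2 inferInstance
  obtain ⟨V, h, v, ⟨a₀, ha₀⟩, -⟩ :=
    (mem_topology_iff _).1 (hloc.imageSieve_mem (U := U) q) (e.hom.base (default : Spec (CommRingCat.of L)))
  haveI : AlgebraicGeometry.Etale h.left := etale_left h
  let hl : V.left ⟶ U.left := h.left
  obtain ⟨N, _, _, _, _, m, hm⟩ := exists_galois_refinement (hl ≫ e.inv) v
  let alg : Spec (CommRingCat.of N) ⟶ Spec (CommRingCat.of L) :=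
    Spec.map (CommRingCat.ofHom (algebraMap L N))
  haveI : AlgebraicGeometry.Etale alg := by
    rw [HasRingHomProperty.Spec_iff (P := @AlgebraicGeometry.Etale)]
    haveI : Algebra.FormallyEtale L N := Algebra.FormallyEtale.of_isSeparable L N
    haveI : Algebra.FinitePresentation L N := Algebra.FinitePresentation.of_finiteType.1 inferInstance
    exact RingHom.etale_algebraMap.2 {}
  let u : U.left ⟶ X := U.hom
  haveI : AlgebraicGeometry.Etale u := U.prop
  let W : X.Etale := Scheme.Etale.mk (alg ≫ e.hom ≫ u)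
  have hmh : m ≫ hl = alg ≫ e.hom := by
    rw [← cancel_mono e.inv, Category.assoc, hm, Category.assoc, Iso.hom_inv_id, Category.comp_id]
  let mW : W ⟶ V := MorphismProperty.Over.homMk m (by
    change m ≫ V.hom = alg ≫ e.hom ≫ u
    rw [← Category.assoc alg, ← hmh, Category.assoc]
    exact congrArg (m ≫ ·) (MorphismProperty.Over.w h).symm)
  let π : W ⟶ U := mW ≫ h
  have hπ : π.left = alg ≫ e.hom := hmh
  let γW : (N ≃ₐ[L] N) → (W ⟶ W) := fun γ => MorphismProperty.Over.homMk
    (Spec.map (CommRingCat.ofHom γ.toAlgHom.toRingHom)) (by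
      change Spec.map _ ≫ alg ≫ e.hom ≫ u = alg ≫ e.hom ≫ u
      rw [← Category.assoc, ← Spec.map_comp]
      refine congrArg (fun k => Spec.map k ≫ e.hom ≫ u) ?_
      ext r
      exact γ.commutes r)
  have hγπ : ∀ γ, γW γ ≫ π = π := fun γ => by
    apply MorphismProperty.Over.Hom.ext
    change Spec.map _ ≫ π.left = π.left
    rw [hπ, ← Category.assoc, ← Spec.map_comp]
    refine congrArg (fun k => Spec.map k ≫ e.hom) ?_
    ext r
    exact γ.commutes r
  have hγmul : ∀ γ δ, γW γ ≫ γW δ = γW (γ * δ) := fun γ δ => by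
    apply MorphismProperty.Over.Hom.ext
    change Spec.map _ ≫ Spec.map _ = Spec.map _
    rw [← Spec.map_comp]
    rfl
  let a₁ : A.obj.obj (op W) := A.obj.map mW.op a₀
  have ha₁ : g.hom.app (op W) a₁ = B.obj.map π.op q := by
    rw [show g.hom.app (op W) a₁ = B.obj.map mW.op (g.hom.app (op V) a₀) from
      NatTrans.naturality_apply g.hom mW.op a₀, ha₀]
    exact (ConcreteCategory.comp_apply _ _ q).symm.trans
      (ConcreteCategory.congr_hom (B.obj.map_comp h.op mW.op).symm q)
  let a₂ : A.obj.obj (op W) := ∑ γ : N ≃ₐ[L] N, A.obj.map (γW γ).op a₁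
  have hinv : ∀ γ, A.obj.map (γW γ).op a₂ = a₂ := by
    intro γ
    simp only [a₂, map_sum, ← ConcreteCategory.comp_apply, ← Functor.map_comp, ← op_comp, hγmul]
    exact Fintype.sum_equiv (Equiv.mulLeft γ) _ _ fun δ => rfl
  have hga₂ : g.hom.app (op W) a₂ = Fintype.card (N ≃ₐ[L] N) • B.obj.map π.op q := by
    simp only [a₂, map_sum]
    rw [← Finset.card_univ, ← Finset.sum_const]
    refine Finset.sum_congr rfl fun γ _ => ?_
    rw [NatTrans.naturality_apply g.hom, ha₁, ← ConcreteCategory.comp_apply, ← Functor.map_comp,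
      ← op_comp, hγπ]
  obtain ⟨a, ha⟩ := galois_descend π e (eW := Iso.refl _) ((Category.id_comp π.left).trans hπ) A a₂
    fun γ gW hgW => by
      have : gW = γW γ := by
        apply MorphismProperty.Over.Hom.ext
        have h' := hgW
        simp only [Iso.refl_hom, Category.id_comp, Category.comp_id] at h'
        exact h'
      rw [this]
      exact hinv γ
  refine ⟨Fintype.card (N ≃ₐ[L] N), Fintype.card_pos, a, ?_⟩
  refine (isSheafFor_of_covers B (fun _ : PUnit.{1} => W) (fun _ => π)
    (surjective_of_iso π e (Iso.refl _) ((Category.id_comp π.left).trans hπ))).isSeparatedFor.ext fun T t ht => ?_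
  obtain ⟨_⟩ := ht
  change B.obj.map π.op (g.hom.app (op U) a) = B.obj.map π.op (Fintype.card (N ≃ₐ[L] N) • q)
  rw [← NatTrans.naturality_apply g.hom π.op a, map_nsmul, ← hga₂, ha]

/-- A positive multiple of a section on a quasi-compact étale scheme over a field lifts along an
epimorphism. -/
theorem exists_nsmul_lift {K : Type u} [Field K] {A B : EtCoh.Ab (Spec (CommRingCat.of K))} (g : A ⟶ B)
    [Epi g] (U : (Spec (CommRingCat.of K)).Etale) [CompactSpace U.left] (q : B.obj.obj (op U)) :
    ∃ n : ℕ, 0 < n ∧ ∃ a : A.obj.obj (op U), g.hom.app (op U) a = n • q := by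
  classical
  haveI := Components.finite U
  haveI := Fintype.ofFinite U.left
  let j := Components.incl U
  have hlift : ∀ x, ∃ n : ℕ, 0 < n ∧
      ∃ a, g.hom.app (op (Components.comp U x)) a = n • B.obj.map (j x).op q := fun x => by
    letI := (Components.isField_single U x).toField
    exact exists_nsmul_lift_of_field g (Components.comp U x) (L := Γ(U.left, Components.single U x))
      (Components.isAffineOpen_single U x).isoSpec.symm _
  choose n hn a ha using hlift
  obtain ⟨t, ht⟩ := (Components.bijective_sections U A).2 fun x => (∏ y ∈ Finset.univ.erase x, n y) • a x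
  refine ⟨∏ y, n y, Finset.prod_pos fun y _ => hn y, t, (Components.bijective_sections U B).1 (funext fun x => ?_)⟩
  have htx : A.obj.map (j x).op t = _ := congrFun ht x
  change B.obj.map (j x).op (g.hom.app (op U) t) = B.obj.map (j x).op ((∏ y, n y) • q)
  rw [← NatTrans.naturality_apply g.hom (j x).op t, htx, map_nsmul, map_nsmul, ha, smul_smul,
    Finset.prod_erase_mul _ _ (Finset.mem_univ x)]

end Groth.Agent.CdLib.FieldTransfer
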