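import Groth.Agent.SpObjSS.RH0
import Mathlib.Algebra.Homology.DerivedCategory.DerivabilityStructureInjectives
import Mathlib.Algebra.Homology.DerivedCategory.KInjective
import Mathlib.Tactic.Abel

/-! Injective amplitude: vanishing of maps from cohomologically `≥ i` objects. -/

set_option autoImplicit false

universe w w' v v' u u'

open CategoryTheory CategoryTheory.Limits DerivedCategory

namespace Groth.Agent.CdLib.InjAmplitude

variable {A : Type u} [Category.{v} A] [Abelian A] [HasDerivedCategory.{w} A]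

/-- Maps into a K-injective complex that vanish in the derived category are null homotopic. -/
theorem nonempty_homotopy_zero {K I : CochainComplex A ℤ} [I.IsKInjective] (f : K ⟶ I)
    (hf : Q.map f = 0) : Nonempty (Homotopy f 0) := by
  refine ⟨HomotopyCategory.homotopyOfEq _ _ ?_⟩
  rw [Functor.map_zero]
  apply (CochainComplex.IsKInjective.Qh_map_bijective _ I).1
  have h : Qh.map ((HomotopyCategory.quotient A (.up ℤ)).map f) ≫ (quotientCompQhIso A).hom.app I =
      (quotientCompQhIso A).hom.app K ≫ Q.map f := (quotientCompQhIso A).hom.naturality f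
  rw [hf, comp_zero] at h
  rw [Functor.map_zero, ← cancel_mono ((quotientCompQhIso A).hom.app I), h, zero_comp]

/-- A section of the differential on cocycles above the injective amplitude. -/
theorem exists_section {I : CochainComplex A ℤ} [I.IsKInjective] (q : ℤ)
    (h : ∀ F : A, Subsingleton ((singleFunctor A q).obj F ⟶ Q.obj I)) :
    ∃ s : kernel (I.d q (q + 1)) ⟶ I.X (q - 1), s ≫ I.d (q - 1) q = kernel.ι (I.d q (q + 1)) := by
  have hφ : ∀ k, (ComplexShape.up ℤ).Rel q k → kernel.ι (I.d q (q + 1)) ≫ I.d q k = 0 := by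
    intro k hk
    obtain rfl : q + 1 = k := hk
    exact kernel.condition _
  let g := HomologicalComplex.mkHomFromSingle (kernel.ι (I.d q (q + 1))) hφ
  have hg : Q.map g = 0 := by
    have := h (kernel (I.d q (q + 1)))
    have h1 : ((singleFunctorIsoCompQ A q).hom.app _ ≫ Q.map g :
        (singleFunctor A q).obj (kernel (I.d q (q + 1))) ⟶ Q.obj I) = 0 := Subsingleton.elim _ _
    exact (cancel_epi ((singleFunctorIsoCompQ A q).hom.app _)).1 (h1.trans comp_zero.symm)
  obtain ⟨H⟩ := nonempty_homotopy_zero g hg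
  refine ⟨(HomologicalComplex.singleObjXSelf (ComplexShape.up ℤ) q _).inv ≫ H.hom q (q - 1), ?_⟩
  have hc := H.comm q
  rw [dNext_eq H.hom (show (ComplexShape.up ℤ).Rel q (q + 1) from rfl),
    prevD_eq H.hom (show (ComplexShape.up ℤ).Rel (q - 1) q by simp),
    HomologicalComplex.mkHomFromSingle_f, HomologicalComplex.single_obj_d, zero_comp, zero_add] at hc
  simp only [HomologicalComplex.zero_f, add_zero] at hc
  rw [Category.assoc, ← hc, Iso.inv_hom_id_assoc]

/-- Above the injective amplitude there are no maps from cohomologically `≥ i` objects. -/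
theorem subsingleton_hom {I : CochainComplex A ℤ} [I.IsKInjective] (m : ℤ)
    (h : ∀ (F : A) (q : ℤ), m < q → Subsingleton ((singleFunctor A q).obj F ⟶ Q.obj I))
    (W : DerivedCategory A) (i : ℤ) [W.IsGE i] (hi : m < i) : Subsingleton (W ⟶ Q.obj I) := by
  refine subsingleton_of_forall_eq 0 fun φ => ?_
  obtain ⟨K, hK, ⟨e⟩⟩ := exists_iso_Q_obj_of_isGE W i
  suffices e.inv ≫ φ = 0 by rw [← cancel_epi e.inv, this, comp_zero]
  obtain ⟨g, hg⟩ := (CochainComplex.IsKInjective.Qh_map_bijective
    ((HomotopyCategory.quotient A (.up ℤ)).obj K) I).2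
    ((quotientCompQhIso A).hom.app K ≫ (e.inv ≫ φ) ≫ (quotientCompQhIso A).inv.app I)
  obtain ⟨f, rfl⟩ := (HomotopyCategory.quotient A (.up ℤ)).map_surjective g
  choose s hs using fun (q : ℤ) (hq : m < q) => exists_section q (fun F => h F q hq)
  let z (q : ℤ) : I.X q ⟶ kernel (I.d (q + 1) (q + 1 + 1)) :=
    kernel.lift _ (I.d q (q + 1)) (I.d_comp_d _ _ _)
  let σ (q : ℤ) (hq : m < q) : I.X q ⟶ I.X (q - 1) :=
    kernel.lift (I.d q (q + 1))
      (𝟙 _ - z q ≫ s (q + 1) (by omega) ≫ (I.XIsoOfEq (by omega : q + 1 - 1 = q)).hom) (by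
      rw [Preadditive.sub_comp, Category.id_comp, Category.assoc, Category.assoc,
        HomologicalComplex.XIsoOfEq_hom_comp_d, hs, kernel.lift_ι, sub_self]) ≫ s q hq
  let hom : ∀ p q, (ComplexShape.up ℤ).Rel q p → (K.X p ⟶ I.X q) := fun p q hqp =>
    if hp : m < p then f.f p ≫ σ p hp ≫ (I.XIsoOfEq (by simp at hqp; omega : p - 1 = q)).hom else 0
  have key : ∀ q, m < q → ∀ (hq : m < q) (hq' : m < q + 1),
      σ q hq ≫ I.d (q - 1) q + I.d q (q + 1) ≫ σ (q + 1) hq' ≫
        (I.XIsoOfEq (by omega : q + 1 - 1 = q)).hom = 𝟙 _ := by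
    intro q _ hq hq'
    have h1 : σ q hq ≫ I.d (q - 1) q =
        𝟙 _ - z q ≫ s (q + 1) (by omega) ≫ (I.XIsoOfEq (by omega : q + 1 - 1 = q)).hom := by
      simp only [σ, Category.assoc, hs, kernel.lift_ι]
    have h2 : I.d q (q + 1) ≫ kernel.lift (I.d (q + 1) (q + 1 + 1))
        (𝟙 _ - z (q + 1) ≫ s (q + 1 + 1) (by omega) ≫
          (I.XIsoOfEq (by omega : q + 1 + 1 - 1 = q + 1)).hom) (by
        rw [Preadditive.sub_comp, Category.id_comp, Category.assoc, Category.assoc,
          HomologicalComplex.XIsoOfEq_hom_comp_d, hs, kernel.lift_ι, sub_self]) = z q := by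
      apply (cancel_mono (kernel.ι _)).1
      rw [Category.assoc, kernel.lift_ι, kernel.lift_ι, Preadditive.comp_sub, Category.comp_id,
        sub_eq_self, ← Category.assoc]
      have : I.d q (q + 1) ≫ z (q + 1) = 0 := by
        apply (cancel_mono (kernel.ι _)).1
        rw [Category.assoc, kernel.lift_ι, zero_comp, I.d_comp_d]
      rw [this, zero_comp]
    rw [h1]
    simp only [σ, Category.assoc]
    rw [reassoc_of% h2]
    abel
  have hnull : f = Homotopy.nullHomotopicMap' hom := by
    ext q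
    have hq1 : (ComplexShape.up ℤ).Rel (q - 1) q := by simp
    rw [Homotopy.nullHomotopicMap'_f hq1 (show (ComplexShape.up ℤ).Rel q (q + 1) from rfl)]
    by_cases hq : m < q
    · simp only [hom, dif_pos hq, dif_pos (show m < q + 1 by omega)]
      simp only [Category.assoc, HomologicalComplex.XIsoOfEq_rfl, Iso.refl_hom, Category.id_comp]
      rw [← Category.assoc (K.d q (q + 1)), ← f.comm, Category.assoc, ← Preadditive.comp_add]
      conv_lhs => rw [← Category.comp_id (f.f q)]
      congr 1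
      rw [add_comm]
      exact (key q hq hq (by omega)).symm
    · exact (CochainComplex.isZero_of_isStrictlyGE K i q (by omega)).eq_of_src _ _
  have hq0 : (HomotopyCategory.quotient A (.up ℤ)).map f = 0 := by
    rw [HomotopyCategory.eq_of_homotopy f 0 (hnull ▸ Homotopy.nullHomotopy' hom), Functor.map_zero]
  rw [hq0, Functor.map_zero] at hg
  rw [← cancel_epi ((quotientCompQhIso A).hom.app K), ← cancel_mono ((quotientCompQhIso A).inv.app I)]
  simpa using hg.symm

variable [EnoughInjectives A]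

/-- The same, in the bounded below derived category, with the bound given by shifts of `L`. -/
theorem plus_subsingleton_hom (L : DerivedCategory.Plus A) (a : ℤ) [L.IsGE a] (m : ℤ)
    (hL : ∀ (F : A) (i : ℤ), m < i →
      Subsingleton ((DerivedCategory.Plus.singleFunctor A 0).obj F ⟶ L⟦i⟧))
    (W : DerivedCategory.Plus A) [W.IsGE 0] (i : ℤ) (hi : m < i) : Subsingleton (W ⟶ L⟦i⟧) := by
  obtain ⟨J, hJ, ⟨e⟩⟩ := DerivedCategory.Plus.exists_injective_nonempty_iso L a
  let I : CochainComplex A ℤ := ((InjectiveObject.ι A).mapCochainComplexPlus.obj J).obj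
  have hI : I.IsStrictlyGE a :=
    (CochainComplex.isStrictlyGE_mapHomologicalComplex_obj_iff J.obj (InjectiveObject.ι A) a).2 hJ
  have : ∀ n, Injective (I.X n) := fun n => inferInstanceAs (Injective (J.obj.X n).obj)
  have : I.IsKInjective := CochainComplex.isKInjective_of_injective I a
  let e' : Q.obj I ≅ Plus.ι.obj L := (quotientCompQhIso A).symm.app I ≪≫ Plus.ι.mapIso e
  let E := shiftEquiv' (DerivedCategory A) (-i) i (by omega)
  let back (X : DerivedCategory A) : (X⟦-i⟧ ⟶ Plus.ι.obj L) ≃ (X ⟶ (Plus.ι.obj L)⟦i⟧) :=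
    E.toAdjunction.homEquiv X (Plus.ι.obj L)
  have hq : ∀ (F : A) (q : ℤ), m < q → Subsingleton ((singleFunctor A q).obj F ⟶ Q.obj I) := by
    intro F q hq
    have h1 := hL F q hq
    let j : (singleFunctor A q).obj F ≅ ((singleFunctor A 0).obj F)⟦-q⟧ :=
      (((singleFunctors A).shiftIso (-q) q 0 (by omega)).app F).symm
    let eq₁ : ((singleFunctor A q).obj F ⟶ Q.obj I) ≃ (((singleFunctor A 0).obj F)⟦-q⟧ ⟶ Plus.ι.obj L) :=
      Iso.homCongr j e'
    let eq₂ := (shiftEquiv' (DerivedCategory A) (-q) q (by omega)).toAdjunction.homEquiv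
      ((singleFunctor A 0).obj F) (Plus.ι.obj L)
    let eq₃ : ((Plus.singleFunctor A 0).obj F ⟶ L⟦q⟧) ≃
        ((singleFunctor A 0).obj F ⟶ (Plus.ι.obj L)⟦q⟧) :=
      (Functor.FullyFaithful.ofFullyFaithful (Plus.ι (C := A))).homEquiv.trans
        (Iso.homCongr ((Plus.singleFunctorιIso A 0).app F) ((Plus.ι.commShiftIso q).app L))
    exact (eq₁.trans (eq₂.trans eq₃.symm)).injective.subsingleton
  have hW : ((Plus.ι.obj W)⟦-i⟧).IsGE i :=
    (TStructure.t (C := A)).isGE_shift _ 0 (-i) i (by omega)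
  have h2 := subsingleton_hom m hq ((Plus.ι.obj W)⟦-i⟧) i hi
  let eq₄ : (W ⟶ L⟦i⟧) ≃ ((Plus.ι.obj W)⟦-i⟧ ⟶ Q.obj I) :=
    (Functor.FullyFaithful.ofFullyFaithful (Plus.ι (C := A))).homEquiv.trans
      ((Iso.homCongr (Iso.refl _) ((Plus.ι.commShiftIso i).app L)).trans
        ((back (Plus.ι.obj W)).symm.trans (Iso.homCongr (Iso.refl _) e'.symm)))
  exact eq₄.injective.subsingleton

variable {B : Type u'} [Category.{v'} B] [Abelian B] [HasDerivedCategory.{w'} B]

/-- Right derived functors are left t-exact. -/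
theorem isGE_rightDerivedFunctorPlus (F : A ⥤ B) [F.Additive] (X : DerivedCategory.Plus A) (n : ℤ)
    [X.IsGE n] : (F.rightDerivedFunctorPlus.obj X).IsGE n := by
  rw [← DerivedCategory.Plus.isGE_ι_obj_iff, DerivedCategory.isGE_iff]
  intro i hi
  exact (SpObjSS.isZero_rh0_shift F X n i hi).of_iso (SpObjSS.rh0ShiftIso F X i).symm

end Groth.Agent.CdLib.InjAmplitude
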