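import Groth.Agent.H9Misc.PlusComp
import Groth.Agent.H9Misc.PlusRB
import Groth.Agent.S4330

/-! Right derived functors on `D⁺` of composites, with an exact second functor. -/

set_option autoImplicit false
set_option backward.isDefEq.respectTransparency false

universe u

open CategoryTheory CategoryTheory.Limits
attribute [local instance] HasDerivedCategory.standard

namespace Groth.Agent.CdLib.PlusFun

variable {A B C : Type (u + 2)} [Category.{u + 1} A] [Category.{u + 1} B] [Category.{u + 1} C]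
  [Abelian A] [Abelian B] [Abelian C] [EnoughInjectives A] [EnoughInjectives B]
  (F : A ⥤ B) (G : B ⥤ C) [F.Additive] [G.Additive]

/-- `R(F ⋙ G) ≅ RF ⋙ RG` when `F` preserves injectives. -/
theorem nonempty_compIso (H : A ⥤ C) [H.Additive] (θ : H ≅ F ⋙ G) [F.PreservesInjectiveObjects]
    [PreservesFiniteLimits G] :
    Nonempty (H.rightDerivedFunctorPlus ≅ F.rightDerivedFunctorPlus ⋙ G.rightDerivedFunctorPlus) :=
  haveI := S4330.Aux.isIso_rPlusDesc₂ (F := F) (G := G) θ
  ⟨asIso (EtSix.rPlusDesc₂ θ.hom)⟩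

omit [EnoughInjectives B] in
theorem iso_of_isRightDerived (H : A ⥤ C) [H.Additive]
    (R : DerivedCategory.Plus A ⥤ DerivedCategory.Plus C)
    {α : H.mapHomotopyCategoryPlus ⋙ DerivedCategory.Plus.Qh ⟶ DerivedCategory.Plus.Qh ⋙ R}
    (h : R.IsRightDerivedFunctor α (HomotopyCategory.Plus.quasiIso A)) :
    Nonempty (H.rightDerivedFunctorPlus ≅ R) :=
  haveI := h
  ⟨Functor.rightDerivedUnique H.rightDerivedFunctorPlus R H.rightDerivedFunctorPlusUnit α
    (HomotopyCategory.Plus.quasiIso A)⟩

/-- `R(F ⋙ G) ≅ RF ⋙ RG` when `G` is exact. -/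
theorem nonempty_compIso_exact [PreservesFiniteLimits G] [PreservesFiniteColimits G]
    [(F ⋙ G).Additive] :
    Nonempty ((F ⋙ G).rightDerivedFunctorPlus ≅
      F.rightDerivedFunctorPlus ⋙ G.rightDerivedFunctorPlus) := by
  have : IsIso G.rightDerivedFunctorPlusUnit :=
    Functor.isIso_of_isRightDerivedFunctor_of_inverts (W := HomotopyCategory.Plus.quasiIso B) _ _
      H9Misc.PlusRB.inverts_of_exact
  let c : (F ⋙ G).mapHomotopyCategoryPlus ≅ F.mapHomotopyCategoryPlus ⋙ G.mapHomotopyCategoryPlus :=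
    (Functor.mapHomotopyCategoryPlusCompIso (Iso.refl (F ⋙ G))).symm
  have h := H9Misc.PlusComp.isRightDerived F G (H := F ⋙ G) (fun I _ => ((asIso G.rightDerivedFunctorPlusUnit).app _).isIso_hom) c
  exact iso_of_isRightDerived _ _ h

end Groth.Agent.CdLib.PlusFun
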