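import Mathlib.Topology.KrullDimension
import Mathlib.AlgebraicGeometry.Scheme

/-! The dimension of the closure of a point as a dimension function. -/

set_option autoImplicit false

universe u

open TopologicalSpace

namespace Groth.Agent.CdLib.PointDim

variable {T : Type u} [TopologicalSpace T]

/-- The closure of a point. -/
def cl (x : T) : IrreducibleCloseds T := ⟨closure {x}, isIrreducible_singleton.closure, isClosed_closure⟩

/-- The dimension of the closure of a point. -/
noncomputable def dimCl (x : T) : ℕ∞ := Order.height (cl x)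

theorem dimCl_le (x : T) : (dimCl x : WithBot ℕ∞) ≤ topologicalKrullDim T := Order.height_le_krullDim _

theorem cl_lt [T0Space T] {x y : T} (h : x ⤳ y) (hne : x ≠ y) : cl y < cl x := by
  refine lt_of_le_of_ne h.closure_subset fun e => hne ?_
  exact ((inseparable_iff_closure_eq).2 (congrArg (fun C : IrreducibleCloseds T => (C : Set T)) e)).eq.symm

/-- The dimension of the closure as a natural number, when bounded. -/
noncomputable def phi (x : T) : ℕ := (dimCl x).toNat

theorem phi_le {d : ℕ} (hd : topologicalKrullDim T ≤ d) (x : T) : phi x ≤ d := by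
  have h : (dimCl x : WithBot ℕ∞) ≤ ((d : ℕ∞) : WithBot ℕ∞) := (dimCl_le x).trans hd
  exact ENat.toNat_le_of_le_coe (WithBot.coe_le_coe.1 h)

theorem phi_lt [T0Space T] {d : ℕ} (hd : topologicalKrullDim T ≤ d) {x y : T} (h : x ⤳ y) (hne : x ≠ y) :
    phi y < phi x := by
  have hle : ∀ z : T, dimCl z ≤ (d : ℕ∞) := fun z =>
    WithBot.coe_le_coe.1 ((dimCl_le z).trans hd)
  have hy : dimCl y < ⊤ := (hle y).trans_lt (ENat.natCast_lt_top d)
  have hlt : dimCl y < dimCl x := Order.height_strictMono (cl_lt h hne) hy
  obtain ⟨a, ha⟩ := ENat.ne_top_iff_exists.1 ((hle x).trans_lt (ENat.natCast_lt_top d)).ne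
  obtain ⟨b, hb⟩ := ENat.ne_top_iff_exists.1 hy.ne
  rw [← ha, ← hb, Nat.cast_lt] at hlt
  simp only [phi, ← ha, ← hb, ENat.toNat_natCast]
  exact hlt

end Groth.Agent.CdLib.PointDim
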